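import Mathlib.RingTheory.FiniteType
import Mathlib.RingTheory.MvPolynomial.Ideal
import Mathlib.Algebra.MvPolynomial.Division
import Mathlib.LinearAlgebra.Dimension.Constructions
import Mathlib.LinearAlgebra.FiniteDimensional.Basic
import Mathlib.RingTheory.Ideal.Quotient.Operations

/-! Quotients of polynomial rings by powers of the variables. -/

namespace Groth.Agent.QsChow19

open MvPolynomial

variable {σ k : Type*} [CommRing k] [Nontrivial k]

noncomputable def powIdl (b : σ → ℕ) : Ideal (MvPolynomial σ k) :=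
  Ideal.span (Set.range fun i => (X i : MvPolynomial σ k) ^ b i)

theorem mem_powIdl {b : σ → ℕ} {q : MvPolynomial σ k} :
    q ∈ powIdl b ↔ ∀ d ∈ q.support, ∃ i, b i ≤ d i := by
  have h : (Set.range fun i => (X i : MvPolynomial σ k) ^ b i) =
      (fun s => monomial s (1 : k)) '' (Set.range fun i => Finsupp.single i (b i)) := by
    rw [← Set.range_comp]
    exact congrArg Set.range (funext fun i => X_pow_eq_monomial)
  simp only [powIdl, h, mem_ideal_span_monomial_image, Set.exists_range_iff, Finsupp.single_le_iff]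

/-- Division in the quotient by powers of the variables. -/
theorem exists_sub_mem {b : σ → ℕ} (i₀ : σ) (m : ℕ) {f : MvPolynomial σ k}
    (h : X i₀ ^ m * f ∈ powIdl b) : ∃ g, f - X i₀ ^ (b i₀ - m) * g ∈ powIdl b := by
  classical
  refine ⟨f.divMonomial (Finsupp.single i₀ (b i₀ - m)), ?_⟩
  have e : f - X i₀ ^ (b i₀ - m) * f.divMonomial (Finsupp.single i₀ (b i₀ - m)) =
      f.modMonomial (Finsupp.single i₀ (b i₀ - m)) := by
    rw [X_pow_eq_monomial, sub_eq_iff_eq_add, add_comm, divMonomial_add_modMonomial]
  rw [e]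
  refine mem_powIdl.2 fun d hd => ?_
  rw [mem_support_iff] at hd
  have hlt : ¬ Finsupp.single i₀ (b i₀ - m) ≤ d := fun hle => hd (coeff_modMonomial_of_le f hle)
  rw [coeff_modMonomial_of_not_le f hlt] at hd
  rw [Finsupp.single_le_iff, not_le] at hlt
  obtain ⟨i, hi⟩ := mem_powIdl.1 h (Finsupp.single i₀ m + d) (by
    rw [mem_support_iff, X_pow_eq_monomial, coeff_monomial_mul, one_mul]
    exact hd)
  refine ⟨i, ?_⟩
  rcases eq_or_ne i i₀ with rfl | hne
  · rw [Finsupp.add_apply, Finsupp.single_eq_same] at hi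
    omega
  · rwa [Finsupp.add_apply, Finsupp.single_eq_of_ne hne, zero_add] at hi

variable [Fintype σ]

noncomputable def toDeg {b : σ → ℕ} (x : ∀ i, Fin (b i)) : σ →₀ ℕ :=
  Finsupp.equivFunOnFinite.symm fun i => (x i : ℕ)

theorem toDeg_injective {b : σ → ℕ} : Function.Injective (toDeg (b := b)) := fun x y h => by
  funext i
  exact Fin.ext (DFunLike.congr_fun h i)

/-- Coefficients inside the box. -/
noncomputable def boxCoeff (b : σ → ℕ) : MvPolynomial σ k →ₗ[k] ((∀ i, Fin (b i)) → k) :=
  LinearMap.pi fun x => lcoeff k (toDeg x)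

theorem ker_boxCoeff (b : σ → ℕ) :
    LinearMap.ker (boxCoeff (k := k) b) = (powIdl b).restrictScalars k := by
  ext q
  simp only [LinearMap.mem_ker, Submodule.restrictScalars_mem, mem_powIdl]
  constructor
  · intro h d hd
    by_contra hc
    push Not at hc
    have := congrFun h fun i => ⟨d i, hc i⟩
    simp only [boxCoeff, LinearMap.pi_apply, lcoeff_apply, Pi.zero_apply] at this
    refine (mem_support_iff.1 hd) ?_
    convert this
    ext i
    rfl
  · intro h
    funext x
    simp only [boxCoeff, LinearMap.pi_apply, lcoeff_apply, Pi.zero_apply]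
    by_contra hc
    obtain ⟨i, hi⟩ := h _ (mem_support_iff.2 hc)
    exact absurd hi (not_le.2 (x i).isLt)

theorem boxCoeff_surjective [DecidableEq σ] (b : σ → ℕ) : Function.Surjective (boxCoeff (k := k) b) := by
  classical
  intro f
  refine ⟨∑ x, monomial (toDeg x) (f x), funext fun y => ?_⟩
  simp only [boxCoeff, LinearMap.pi_apply, map_sum, lcoeff_apply]
  simp only [coeff_monomial, toDeg_injective.eq_iff]
  simp

theorem finrank_quotient_powIdl (b : σ → ℕ) :
    Module.finrank k (MvPolynomial σ k ⧸ powIdl (k := k) b) = ∏ i, b i := by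
  classical
  rw [← (Submodule.Quotient.restrictScalarsEquiv k (powIdl (k := k) b)).finrank_eq, ← ker_boxCoeff,
    ((boxCoeff (k := k) b).quotKerEquivOfSurjective (boxCoeff_surjective b)).finrank_eq,
    Module.finrank_fintype_fun_eq_card, Fintype.card_pi]
  simp

theorem finite_quotient_powIdl (b : σ → ℕ) : Module.Finite k (MvPolynomial σ k ⧸ powIdl (k := k) b) := by
  classical
  refine Module.Finite.equiv ?_ (M := (∀ i, Fin (b i)) → k)
  exact ((((Submodule.Quotient.restrictScalarsEquiv k (powIdl (k := k) b)).symm.trans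
    (Submodule.quotEquivOfEq _ _ (ker_boxCoeff b).symm)).trans
    ((boxCoeff (k := k) b).quotKerEquivOfSurjective (boxCoeff_surjective b)))).symm

end Groth.Agent.QsChow19
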