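import Groth.Prelude.Def_W4c4chowquasisplitPn
import Groth.Agent.Lib.QsChow19.Monomial
import Mathlib.Tactic.LinearCombination

/-! The involution of the truncated algebra and its fixed subalgebra. -/

namespace Groth.Agent.QsChow19

open MvPolynomial QsChow

variable {n : ℕ}

theorem two_eq_zero : (2 : P n) = 0 := by
  rw [← map_ofNat (algebraMap (ZMod 2) (P n)) 2, show (OfNat.ofNat 2 : ZMod 2) = 0 from rfl, map_zero]

theorem two_eq_zeroE : (2 : FreeE n) = 0 := by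
  rw [← map_ofNat (algebraMap (ZMod 2) (FreeE n)) 2, show (OfNat.ofNat 2 : ZMod 2) = 0 from rfl, map_zero]

theorem one_lt_numVars (hn : 2 ≤ n) : 1 < numVars n := by unfold numVars; omega

theorem eps_succ (i : Fin (numVars n)) : eps n (i.val + 1) = Ideal.Quotient.mk (truncIdeal n) (X i) := by
  unfold eps
  rw [dif_pos ⟨Nat.succ_pos _, i.isLt⟩]
  rfl

theorem eps_one : eps n 1 = Ideal.Quotient.mk (truncIdeal n) (X ⟨0, Nat.succ_pos _⟩) := eps_succ ⟨0, _⟩

theorem eps_pow_bound (i : Fin (numVars n)) : eps n (i.val + 1) ^ bound n i = 0 := by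
  rw [eps_succ, ← map_pow]
  exact Ideal.Quotient.eq_zero_iff_mem.2 (Ideal.subset_span ⟨i, rfl⟩)

theorem eps_one_pow (n : ℕ) : eps n 1 ^ n = 0 := by
  simpa [bound] using eps_pow_bound (n := n) ⟨0, Nat.succ_pos _⟩

theorem eps_pow_klog {j : ℕ} (h2 : 2 ≤ j) (hj : j ≤ numVars n) : eps n j ^ 2 ^ klog n j = 0 := by
  have h := eps_pow_bound (n := n) ⟨j - 1, by omega⟩
  rw [bound, if_neg (show j - 1 ≠ 0 by omega)] at h
  rwa [show j - 1 + 1 = j by omega] at h

theorem eps_one_pow_of_le {m : ℕ} (h : n ≤ m) : eps n 1 ^ m = 0 := pow_eq_zero_of_le h (eps_one_pow n)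

/-- Annihilator of a power of `ε₁`. -/
theorem exists_eq_pow_mul {m : ℕ} {p : P n} (h : eps n 1 ^ m * p = 0) :
    ∃ q, p = eps n 1 ^ (n - m) * q := by
  obtain ⟨f, rfl⟩ := Ideal.Quotient.mk_surjective p
  rw [eps_one, ← map_pow, ← map_mul, Ideal.Quotient.eq_zero_iff_mem] at h
  have hb : bound n ⟨0, Nat.succ_pos _⟩ = n := if_pos rfl
  have ht : truncIdeal n = powIdl (bound n) := rfl
  rw [ht] at h
  obtain ⟨g, hg⟩ := exists_sub_mem (b := bound n) ⟨0, Nat.succ_pos _⟩ m h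
  rw [hb, ← ht] at hg
  refine ⟨Ideal.Quotient.mk _ g, ?_⟩
  rw [eps_one, ← map_pow, ← map_mul, Ideal.Quotient.eq]
  exact hg

/-- The image of `φ`, as a subalgebra. -/
noncomputable abbrev C (n : ℕ) : Subalgebra (ZMod 2) (P n) := (phi n).range

theorem gen_mem (o : Option (Fin (numVars n))) : genImage n o ∈ C n := ⟨X o, aeval_X _ _⟩

theorem eps_one_mem : eps n 1 ∈ C n := by
  simpa [genImage] using gen_mem (n := n) (some ⟨0, Nat.succ_pos _⟩)

theorem w_mem (hn : 2 ≤ n) : eps n 2 ^ 2 + eps n 1 * eps n 2 ∈ C n := by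
  simpa [genImage] using gen_mem (n := n) (some ⟨1, one_lt_numVars hn⟩)

theorem x_mem : eps n 1 ^ (n - 1) * eps n 2 ∈ C n := gen_mem none

/-- The whole algebra is `C + ε₂ C`. -/
theorem exists_decomp (hn : 2 ≤ n) (p : P n) : ∃ a ∈ C n, ∃ b ∈ C n, p = a + eps n 2 * b := by
  have hmul : ∀ a b c d : P n, a ∈ C n → b ∈ C n → c ∈ C n → d ∈ C n →
      ∃ a' ∈ C n, ∃ b' ∈ C n, (a + eps n 2 * b) * (c + eps n 2 * d) = a' + eps n 2 * b' :=
    fun a b c d ha hb hc hd =>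
      ⟨a * c + (eps n 2 ^ 2 + eps n 1 * eps n 2) * (b * d),
        add_mem (mul_mem ha hc) (mul_mem (w_mem hn) (mul_mem hb hd)),
        a * d + b * c + eps n 1 * (b * d),
        add_mem (add_mem (mul_mem ha hd) (mul_mem hb hc)) (mul_mem eps_one_mem (mul_mem hb hd)), by
        linear_combination (-(eps n 1 * eps n 2 * (b * d))) * two_eq_zero (n := n)⟩
  obtain ⟨f, rfl⟩ := Ideal.Quotient.mk_surjective p
  induction f using MvPolynomial.induction_on with
  | C r => exact ⟨_, Subalgebra.algebraMap_mem (C n) r, 0, zero_mem _, by rw [mul_zero, add_zero]; rfl⟩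
  | add p q hp hq =>
    obtain ⟨a, ha, b, hb, e⟩ := hp
    obtain ⟨c, hc, d, hd, e'⟩ := hq
    exact ⟨a + c, add_mem ha hc, b + d, add_mem hb hd, by rw [map_add, e, e']; ring⟩
  | mul_X p i hp =>
    obtain ⟨a, ha, b, hb, e⟩ := hp
    obtain ⟨c, hc, d, hd, e'⟩ : ∃ c ∈ C n, ∃ d ∈ C n, eps n (i.val + 1) = c + eps n 2 * d := by
      have hg := gen_mem (n := n) (some i)
      simp only [genImage] at hg
      split_ifs at hg with h0 h1
      · exact ⟨eps n 1, eps_one_mem, 0, zero_mem _, by rw [h0]; ring⟩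
      · exact ⟨0, zero_mem _, 1, one_mem _, by rw [h1]; ring⟩
      · exact ⟨_, hg, eps n 1 ^ (2 * (i.val + 1) - 4), pow_mem eps_one_mem _, by
          linear_combination (-(eps n 1 ^ (2 * (i.val + 1) - 4) * eps n 2)) * two_eq_zero (n := n)⟩
    obtain ⟨a', ha', b', hb', e''⟩ := hmul a b c d ha hb hc hd
    exact ⟨a', ha', b', hb', by rw [map_mul, ← eps_succ, e, e', e'']⟩

variable {τ : P n →ₐ[ZMod 2] P n}

theorem tau_eps_two (hn : 2 ≤ n) (hτ : ∀ j : ℕ, 2 ≤ j → j ≤ numVars n →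
    τ (eps n j) = eps n j + eps n 1 ^ (2 * j - 3)) : τ (eps n 2) = eps n 2 + eps n 1 := by
  simpa using hτ 2 le_rfl (one_lt_numVars hn)

theorem tau_fix (hn : 2 ≤ n) (hτ1 : τ (eps n 1) = eps n 1) (hτ : ∀ j : ℕ, 2 ≤ j → j ≤ numVars n →
    τ (eps n j) = eps n j + eps n 1 ^ (2 * j - 3)) {c : P n} (hc : c ∈ C n) : τ c = c := by
  have h : τ.comp (phi n) = phi n := by
    refine MvPolynomial.algHom_ext fun o => ?_
    simp only [AlgHom.comp_apply, phi, aeval_X]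
    rcases o with _ | i
    · simp only [genImage, map_mul, map_pow, hτ1, tau_eps_two hn hτ]
      rw [mul_add, ← pow_succ, show n - 1 + 1 = n by omega, eps_one_pow, add_zero]
    · simp only [genImage]
      split_ifs with h0 h1
      · exact hτ1
      · simp only [map_add, map_pow, map_mul, hτ1, tau_eps_two hn hτ]
        linear_combination (eps n 2 * eps n 1 + eps n 1 ^ 2) * two_eq_zero (n := n)
      · obtain ⟨e, he, he'⟩ : ∃ e, 2 * (i.val + 1) - 4 = e ∧ 2 * (i.val + 1) - 3 = e + 1 := ⟨_, rfl, by omega⟩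
        rw [he, map_add, map_mul, map_pow, hτ1, tau_eps_two hn hτ, hτ _ (by omega : 2 ≤ i.val + 1) i.isLt, he',
          pow_succ]
        linear_combination (eps n 1 ^ e * eps n 1) * two_eq_zero (n := n)
  obtain ⟨q, rfl⟩ := hc
  exact DFunLike.congr_fun h q

/-- Elements killed by `ε₁` times `ε₂` lie in `C`, and so do they. -/
theorem mem_of_eps_mul_eq_zero (hn : 2 ≤ n) {b : P n} (h : eps n 1 * b = 0) :
    b ∈ C n ∧ eps n 2 * b ∈ C n := by
  obtain ⟨q, rfl⟩ := exists_eq_pow_mul (m := 1) (by rwa [pow_one])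
  obtain ⟨a, ha, c, hc, rfl⟩ := exists_decomp hn q
  have h1 : eps n 1 ^ (n - 1) * eps n 1 = 0 := by
    rw [← pow_succ, show n - 1 + 1 = n by omega, eps_one_pow]
  refine ⟨?_, ?_⟩
  · rw [show eps n 1 ^ (n - 1) * (a + eps n 2 * c) =
      eps n 1 ^ (n - 1) * a + eps n 1 ^ (n - 1) * eps n 2 * c by ring]
    exact add_mem (mul_mem (pow_mem eps_one_mem _) ha) (mul_mem x_mem hc)
  · rw [show eps n 2 * (eps n 1 ^ (n - 1) * (a + eps n 2 * c)) =
      eps n 1 ^ (n - 1) * eps n 2 * a + eps n 1 ^ (n - 1) * ((eps n 2 ^ 2 + eps n 1 * eps n 2) * c) by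
        linear_combination (-(eps n 2 * c)) * h1]
    exact add_mem (mul_mem x_mem ha) (mul_mem (pow_mem eps_one_mem _) (mul_mem (w_mem hn) hc))

theorem add_tau_decomp (hn : 2 ≤ n) (hτ1 : τ (eps n 1) = eps n 1) (hτ : ∀ j : ℕ, 2 ≤ j → j ≤ numVars n →
    τ (eps n j) = eps n j + eps n 1 ^ (2 * j - 3)) {a b : P n} (ha : a ∈ C n) (hb : b ∈ C n) :
    a + eps n 2 * b + τ (a + eps n 2 * b) = eps n 1 * b := by
  rw [map_add, map_mul, tau_fix hn hτ1 hτ ha, tau_fix hn hτ1 hτ hb, tau_eps_two hn hτ]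
  linear_combination (a + eps n 2 * b) * two_eq_zero (n := n)

theorem mem_of_fixed (hn : 2 ≤ n) (hτ1 : τ (eps n 1) = eps n 1) (hτ : ∀ j : ℕ, 2 ≤ j → j ≤ numVars n →
    τ (eps n j) = eps n j + eps n 1 ^ (2 * j - 3)) {z : P n} (hz : τ z = z) : z ∈ C n := by
  obtain ⟨a, ha, b, hb, rfl⟩ := exists_decomp hn z
  have h := add_tau_decomp hn hτ1 hτ ha hb
  rw [hz] at h
  have hb0 : eps n 1 * b = 0 := by linear_combination -h + (a + eps n 2 * b) * two_eq_zero (n := n)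
  exact add_mem ha (mem_of_eps_mul_eq_zero hn hb0).2

theorem fixed_iff (hn : 2 ≤ n) (hτ1 : τ (eps n 1) = eps n 1) (hτ : ∀ j : ℕ, 2 ≤ j → j ≤ numVars n →
    τ (eps n j) = eps n j + eps n 1 ^ (2 * j - 3)) {z : P n} : τ z = z ↔ z ∈ C n :=
  ⟨mem_of_fixed hn hτ1 hτ, tau_fix hn hτ1 hτ⟩

theorem range_phi_eq (hn : 2 ≤ n) (hτ1 : τ (eps n 1) = eps n 1) (hτ : ∀ j : ℕ, 2 ≤ j → j ≤ numVars n →
    τ (eps n j) = eps n j + eps n 1 ^ (2 * j - 3)) :
    (phi n).range = AlgHom.equalizer τ (AlgHom.id (ZMod 2) (P n)) :=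
  SetLike.ext fun _ => (fixed_iff hn hτ1 hτ).symm

end Groth.Agent.QsChow19
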