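import Groth.Agent.Lib.GlobFun18.Sch
import Groth.Agent.Lib.FEtEq25.GlobalSections
import Groth.Prelude.Def_CurvBase
import Mathlib.FieldTheory.Galois.Basic
import Mathlib.RingTheory.Trace.Basic
import Mathlib.AlgebraicGeometry.GammaSpecAdjunction
import Mathlib.Tactic.LinearCombination

/-! A connected scheme whose base change to a Galois extension is disconnected lives over a subfield. -/

set_option backward.isDefEq.respectTransparency.types false

universe u

open CategoryTheory AlgebraicGeometry TensorProduct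

namespace Groth.Agent.QsChow19

section Alg

variable {k : Type u} [Field k] {L : Type u} [Field L] [Algebra k L] [FiniteDimensional k L] [IsGalois k L]
  {A : Type u} [CommRing A] [Algebra k A]

/-- The Galois action on `A ⊗ L`. -/
noncomputable def act (σ : L ≃ₐ[k] L) : A ⊗[k] L →ₐ[A] A ⊗[k] L :=
  Algebra.TensorProduct.map (AlgHom.id A A) σ.toAlgHom

omit [FiniteDimensional k L] [IsGalois k L] in
theorem act_tmul (σ : L ≃ₐ[k] L) (a : A) (l : L) : act σ (a ⊗ₜ[k] l) = a ⊗ₜ[k] σ l := rfl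

omit [FiniteDimensional k L] [IsGalois k L] in
theorem act_mul (σ τ : L ≃ₐ[k] L) (z : A ⊗[k] L) : act (σ * τ) z = act σ (act τ z) := by
  induction z with
  | zero => simp
  | tmul a l => rfl
  | add x y hx hy => simp [hx, hy]

omit [FiniteDimensional k L] [IsGalois k L] in
theorem act_one (z : A ⊗[k] L) : act (1 : L ≃ₐ[k] L) z = z := by
  induction z with
  | zero => simp
  | tmul a l => rfl
  | add x y hx hy => simp [hx, hy]

/-- Galois invariants of `A ⊗ L`. -/
theorem exists_of_fixed (z : A ⊗[k] L) (hz : ∀ σ : L ≃ₐ[k] L, act σ z = z) :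
    ∃ a : A, z = a ⊗ₜ[k] (1 : L) := by
  obtain ⟨θ, hθ⟩ := Algebra.trace_surjective k L 1
  have key : ∀ y : A ⊗[k] L, ∃ a : A, ∑ σ : L ≃ₐ[k] L, act σ y = a ⊗ₜ[k] (1 : L) := fun y => by
    induction y with
    | zero => exact ⟨0, by simp⟩
    | tmul a l =>
      refine ⟨Algebra.trace k L l • a, ?_⟩
      simp only [act_tmul, ← TensorProduct.tmul_sum, ← trace_eq_sum_automorphisms l, Algebra.algebraMap_eq_smul_one,
        TensorProduct.tmul_smul, TensorProduct.smul_tmul']
    | add x y hx hy =>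
      obtain ⟨a, ha⟩ := hx
      obtain ⟨b, hb⟩ := hy
      exact ⟨a + b, by simp only [map_add, Finset.sum_add_distrib, ha, hb, TensorProduct.add_tmul]⟩
  obtain ⟨a, ha⟩ := key ((1 : A) ⊗ₜ[k] θ * z)
  refine ⟨a, ?_⟩
  rw [← ha]
  simp only [map_mul, hz, ← Finset.sum_mul, act_tmul, ← TensorProduct.tmul_sum, ← trace_eq_sum_automorphisms θ, hθ,
    map_one, ← Algebra.TensorProduct.one_def, _root_.one_mul]

omit [FiniteDimensional k L] [IsGalois k L] in
theorem one_tmul_injective : Function.Injective fun a : A => a ⊗ₜ[k] (1 : L) :=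
  Algebra.TensorProduct.includeLeft_injective (S := k) (algebraMap k L).injective

/-- If `A` has no idempotents and `A ⊗ L` has, then `A` contains a subfield of `L` other than `k`. -/
theorem exists_intermediateField_algHom [Nontrivial A] (hA : ∀ a : A, IsIdempotentElem a → a = 0 ∨ a = 1)
    (e : A ⊗[k] L) (he : IsIdempotentElem e) (he0 : e ≠ 0) (he1 : e ≠ 1) :
    ∃ F : IntermediateField k L, F ≠ ⊥ ∧ Nonempty (F →ₐ[k] A) := by
  classical
  let G := L ≃ₐ[k] L
  let at_ : Finset G → A ⊗[k] L := fun S => (∏ σ ∈ S, act σ e) * ∏ σ ∈ Sᶜ, (1 - act σ e)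
  have hsum : ∑ S : Finset G, at_ S = 1 := by
    have h := Finset.prod_add (fun σ : G => act σ e) (fun σ => 1 - act σ e) Finset.univ
    simp only [add_sub_cancel, Finset.prod_const_one, Finset.powerset_univ] at h
    exact h.symm
  have hne : ∃ S, at_ S ≠ 0 := by
    by_contra h
    push Not at h
    exact one_ne_zero (α := A ⊗[k] L) (hsum.symm.trans (Finset.sum_eq_zero fun S _ => h S)) |>.elim
  obtain ⟨S, hS⟩ := hne
  have hidem : ∀ σ : G, IsIdempotentElem (act σ e) := fun σ => he.map (act σ)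
  have hat : ∀ T, IsIdempotentElem (at_ T) := fun T => by
    have hp : ∀ (U : Finset G) (g : G → A ⊗[k] L), (∀ σ, IsIdempotentElem (g σ)) → IsIdempotentElem (∏ σ ∈ U, g σ) :=
      fun U g hg => by
        rw [IsIdempotentElem, ← Finset.prod_mul_distrib]
        exact Finset.prod_congr rfl fun σ _ => hg σ
    exact (hp _ _ hidem).mul (hp _ _ fun σ => (hidem σ).one_sub)
  have hmem : ∀ (T : Finset G) (σ : G), act σ e * at_ T = if σ ∈ T then at_ T else 0 := fun T σ => by
    split_ifs with h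
    · show act σ e * ((∏ τ ∈ T, act τ e) * _) = _ * _
      rw [← _root_.mul_assoc, ← Finset.mul_prod_erase _ _ h, ← _root_.mul_assoc, (hidem σ).eq]
    · show act σ e * (_ * ∏ τ ∈ Tᶜ, (1 - act τ e)) = 0
      rw [← Finset.mul_prod_erase _ _ (Finset.mem_compl.2 h), mul_left_comm, ← _root_.mul_assoc (act σ e),
        (hidem σ).mul_one_sub_self, zero_mul, mul_zero]
  have horth : ∀ T U, T ≠ U → at_ T * at_ U = 0 := fun T U h => by
    obtain ⟨σ, hσ⟩ : ∃ σ, ¬ (σ ∈ T ↔ σ ∈ U) := by
      by_contra hc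
      push Not at hc
      exact h (Finset.ext hc)
    by_cases h1 : σ ∈ T
    · have h2 : σ ∉ U := fun h2 => hσ ⟨fun _ => h2, fun _ => h1⟩
      have e1 := hmem T σ; rw [if_pos h1] at e1
      have e2 := hmem U σ; rw [if_neg h2] at e2
      rw [← e1, mul_comm (act σ e), _root_.mul_assoc, e2, mul_zero]
    · have h2 : σ ∈ U := by by_contra h2; exact hσ ⟨fun h' => absurd h' h1, fun h' => absurd h' h2⟩
      have e1 := hmem T σ; rw [if_neg h1] at e1
      have e2 := hmem U σ; rw [if_pos h2] at e2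
      rw [← e2, ← _root_.mul_assoc, mul_comm (at_ T), e1, zero_mul]
  have hact : ∀ (τ : G) (T : Finset G), act τ (at_ T) = at_ (T.map (Equiv.mulLeft τ).toEmbedding) := fun τ T => by
    show act τ (_ * _) = _ * _
    rw [map_mul, map_prod, map_prod, Finset.prod_map,
      show (T.map (Equiv.mulLeft τ).toEmbedding)ᶜ = Tᶜ.map (Equiv.mulLeft τ).toEmbedding by
        ext x; simp [Finset.mem_map_equiv], Finset.prod_map]
    simp only [map_sub, map_one, Equiv.toEmbedding_apply, Equiv.coe_mulLeft]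
    exact congrArg₂ (· * ·) (Finset.prod_congr rfl fun x _ => (act_mul τ x e).symm)
      (Finset.prod_congr rfl fun x _ => congrArg (1 - ·) (act_mul τ x e).symm)
  obtain ⟨f, hf⟩ : ∃ f, f = at_ S := ⟨_, rfl⟩
  let O : Finset (A ⊗[k] L) := Finset.univ.image fun σ : G => act σ f
  have hO : ∀ g ∈ O, ∀ g' ∈ O, g ≠ g' → g * g' = 0 := by
    simp only [O, Finset.mem_image, Finset.mem_univ, true_and]
    rintro _ ⟨σ, rfl⟩ _ ⟨τ, rfl⟩ h
    rw [hf, hact, hact] at h ⊢
    exact horth _ _ fun hc => h (congrArg at_ hc)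
  have hOmul : ∀ g ∈ O, g * g = g := by
    simp only [O, Finset.mem_image, Finset.mem_univ, true_and]
    rintro _ ⟨σ, rfl⟩
    rw [hf]
    exact ((hat S).map (act σ)).eq
  have hperm : ∀ (τ : G) (φ : A ⊗[k] L → A ⊗[k] L), ∑ g ∈ O, φ (act τ g) = ∑ g ∈ O, φ g := fun τ φ => by
    refine Finset.sum_bij (fun g _ => act τ g) ?_ ?_ ?_ (fun _ _ => rfl)
    · simp only [O, Finset.mem_image, Finset.mem_univ, true_and]
      rintro _ ⟨σ, rfl⟩
      exact ⟨τ * σ, act_mul _ _ _⟩
    · intro g _ g' _ h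
      simpa [← act_mul, act_one] using congrArg (act τ⁻¹) h
    · simp only [O, Finset.mem_image, Finset.mem_univ, true_and]
      rintro _ ⟨σ, rfl⟩
      exact ⟨act (τ⁻¹ * σ) f, ⟨_, rfl⟩, by rw [← act_mul, mul_inv_cancel_left]⟩
  have hfO : f ∈ O := Finset.mem_image.2 ⟨1, Finset.mem_univ _, act_one f⟩
  have hfsum : (∑ g ∈ O, g) * f = f := by
    rw [Finset.sum_mul, Finset.sum_eq_single f (fun g hg h => hO g hg f hfO h) (fun h => absurd hfO h)]
    exact hOmul f hfO
  have hO1 : ∑ g ∈ O, g = 1 := by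
    obtain ⟨a, ha⟩ := exists_of_fixed (∑ g ∈ O, g) fun τ => by rw [map_sum]; exact hperm τ id
    have hidemO : IsIdempotentElem (∑ g ∈ O, g) := by
      rw [IsIdempotentElem, Finset.sum_mul]
      refine Finset.sum_congr rfl fun g hg => ?_
      rw [Finset.mul_sum, Finset.sum_eq_single g (fun g' hg' h => hO g hg g' hg' (Ne.symm h)) (fun h => absurd hg h)]
      exact hOmul g hg
    rcases hA a (one_tmul_injective (k := k) (L := L) (by
      show (a * a) ⊗ₜ[k] (1 : L) = a ⊗ₜ[k] (1 : L)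
      have := hidemO.eq
      rwa [ha, Algebra.TensorProduct.tmul_mul_tmul, _root_.one_mul] at this)) with h | h
    · rw [ha, h, TensorProduct.zero_tmul, zero_mul] at hfsum
      exact absurd (hf ▸ hfsum.symm) hS
    · rw [ha, h, Algebra.TensorProduct.one_def]
  let H : Subgroup G :=
    { carrier := {σ | act σ f = f}
      one_mem' := act_one f
      mul_mem' := fun {a b} ha hb => show act (a * b) f = f by rw [act_mul, hb, ha]
      inv_mem' := fun {a} ha => show act a⁻¹ f = f by
        conv_lhs => rw [← (show act a f = f from ha)]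
        rw [← act_mul, inv_mul_cancel, act_one] }
  refine ⟨IntermediateField.fixedField H, ?_, ?_⟩
  · intro hbot
    have hH : H = ⊤ := by
      rw [← IntermediateField.fixingSubgroup_fixedField H, hbot, IntermediateField.fixingSubgroup_bot]
    have hOf : O = {f} := Finset.eq_singleton_iff_unique_mem.2 ⟨hfO, fun g hg => by
      obtain ⟨σ, -, rfl⟩ := Finset.mem_image.1 hg
      exact (show σ ∈ H from hH ▸ Subgroup.mem_top σ)⟩
    rw [hOf, Finset.sum_singleton] at hO1
    have := hmem S 1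
    rw [act_one, ← hf, hO1, _root_.mul_one] at this
    split_ifs at this
    exacts [he1 this, he0 this]
  · have huniq : ∀ a : A, (a ⊗ₜ[k] (1 : L)) * f = 0 → a = 0 := fun a ha => by
      refine one_tmul_injective (k := k) (L := L) ?_
      show a ⊗ₜ[k] (1 : L) = (0 : A) ⊗ₜ[k] (1 : L)
      rw [TensorProduct.zero_tmul, ← _root_.mul_one (a ⊗ₜ[k] (1 : L)), ← hO1, Finset.mul_sum]
      refine Finset.sum_eq_zero fun g hg => ?_
      obtain ⟨σ, -, rfl⟩ := Finset.mem_image.1 hg
      rw [show a ⊗ₜ[k] (1 : L) = act σ (a ⊗ₜ[k] (1 : L)) by rw [act_tmul, map_one], ← map_mul, ha, map_zero]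
    have hex : ∀ l : IntermediateField.fixedField H, ∃ a : A,
        (a ⊗ₜ[k] (1 : L)) * f = ((1 : A) ⊗ₜ[k] (l : L)) * f := fun l => by
      have hrep : ∀ g, ∃ σ : G, g ∈ O → act σ f = g := fun g => by
        by_cases hg : g ∈ O
        · obtain ⟨σ, -, h⟩ := Finset.mem_image.1 hg; exact ⟨σ, fun _ => h⟩
        · exact ⟨1, fun h => absurd h hg⟩
      choose r hr using hrep
      have hwd : ∀ σ τ : G, act σ f = act τ f → σ (l : L) = τ l := fun σ τ h => by
        have hmemH : τ⁻¹ * σ ∈ H := show act (τ⁻¹ * σ) f = f by rw [act_mul, h, ← act_mul, inv_mul_cancel, act_one]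
        have := l.2 ⟨_, hmemH⟩
        calc σ (l : L) = τ ((τ⁻¹ * σ) (l : L)) := by rw [← AlgEquiv.mul_apply, mul_inv_cancel_left]
          _ = τ l := congrArg τ this
      obtain ⟨a, ha⟩ := exists_of_fixed (∑ g ∈ O, ((1 : A) ⊗ₜ[k] (r g (l : L))) * g) fun τ => by
        rw [map_sum]
        refine (Finset.sum_congr rfl fun g hg => ?_).trans
          (hperm τ fun g => ((1 : A) ⊗ₜ[k] (r g (l : L))) * g)
        rw [map_mul, act_tmul]
        have hmem' : act τ g ∈ O := by
          obtain ⟨σ, -, rfl⟩ := Finset.mem_image.1 hg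
          exact Finset.mem_image.2 ⟨τ * σ, Finset.mem_univ _, act_mul _ _ _⟩
        congr 2
        have := hwd (τ * r g) (r (act τ g)) (by rw [act_mul, hr g hg, hr _ hmem'])
        rwa [AlgEquiv.mul_apply] at this
      refine ⟨a, ?_⟩
      rw [← ha, Finset.sum_mul, Finset.sum_eq_single f (fun g hg h => by rw [_root_.mul_assoc, hO g hg f hfO h, mul_zero])
        (fun h => absurd hfO h), _root_.mul_assoc, hOmul f hfO, hwd (r f) 1 (by rw [hr f hfO, act_one])]
      rfl
    choose Φ hΦ using hex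
    have hu : ∀ a b : A, (a ⊗ₜ[k] (1 : L)) * f = (b ⊗ₜ[k] (1 : L)) * f → a = b := fun a b h =>
      sub_eq_zero.1 (huniq _ (by rw [TensorProduct.sub_tmul, sub_mul, h, sub_self]))
    refine ⟨⟨⟨⟨⟨Φ, hu _ _ ?_⟩, fun x y => hu _ _ ?_⟩, hu _ _ ?_, fun x y => hu _ _ ?_⟩, fun c => hu _ _ ?_⟩⟩
    · rw [hΦ]; rfl
    · rw [hΦ, IntermediateField.coe_mul,
        show (Φ x * Φ y) ⊗ₜ[k] (1 : L) = (Φ x ⊗ₜ[k] (1 : L)) * (Φ y ⊗ₜ[k] (1 : L)) by simp, _root_.mul_assoc, hΦ,
        mul_left_comm, hΦ, ← _root_.mul_assoc]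
      simp [mul_comm]
    · rw [hΦ, TensorProduct.zero_tmul, zero_mul]
      simp
    · rw [hΦ, IntermediateField.coe_add, TensorProduct.tmul_add, add_mul, TensorProduct.add_tmul, add_mul, hΦ, hΦ]
    · show Φ _ ⊗ₜ[k] (1 : L) * f = _
      rw [hΦ]
      congr 1
      show (1 : A) ⊗ₜ[k] (algebraMap k L c) = _
      rw [Algebra.algebraMap_eq_smul_one, TensorProduct.tmul_smul, TensorProduct.smul_tmul', Algebra.algebraMap_eq_smul_one]

end Alg

/-- A connected scheme over `k` which becomes disconnected over `L` lives over a nontrivial subfield of `L`. -/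
theorem exists_factor (k : Type u) [Field k] (X : Scheme.{u}) [X.Over (Spec (CommRingCat.of k))]
    [QuasiCompact (X ↘ Spec (CommRingCat.of k))] [QuasiSeparated (X ↘ Spec (CommRingCat.of k))]
    [ConnectedSpace X] (L : Type u) [Field L] [Algebra k L] [FiniteDimensional k L] [IsGalois k L]
    (hdisc : ¬ ConnectedSpace ↥(Curv2.bc k X L)) :
    ∃ F : IntermediateField k L, F ≠ ⊥ ∧ ∃ g : X ⟶ Spec (CommRingCat.of F),
      g ≫ Spec.map (CommRingCat.ofHom (algebraMap k F)) = X ↘ Spec (CommRingCat.of k) := by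
  letI : Algebra k Γ(X, ⊤) :=
    ((Scheme.ΓSpecIso (CommRingCat.of k)).inv ≫ (X ↘ Spec (CommRingCat.of k)).appTop).hom.toAlgebra
  obtain ⟨e⟩ := GlobFun18.exists_ringEquiv_tensor (X ↘ Spec (CommRingCat.of k)) rfl L
  haveI : Nonempty ↥(Curv2.bc k X L) := by
    haveI : Surjective (Curv2.bcFst k X L) := inferInstance
    exact ⟨((Curv2.bcFst k X L).surjective (Classical.arbitrary X)).choose⟩
  obtain ⟨E, hE, hE0, hE1⟩ : ∃ E : Γ(Curv2.bc k X L, ⊤), IsIdempotentElem E ∧ E ≠ 0 ∧ E ≠ 1 := by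
    obtain ⟨C, hC, hC0, hC1⟩ : ∃ C : Set ↥(Curv2.bc k X L), IsClopen C ∧ C ≠ ∅ ∧ C ≠ Set.univ := by
      by_contra h
      push Not at h
      exact hdisc { toPreconnectedSpace := preconnectedSpace_iff_clopen.2 fun C hC =>
                      (Set.eq_empty_or_nonempty C).imp id fun h' => h C hC h'
                    toNonempty := inferInstance }
    obtain ⟨E, hE, hEC⟩ := FEtEq25.exists_idempotent hC
    refine ⟨E, hE, fun h => hC0 ?_, fun h => hC1 ?_⟩
    · rw [← hEC, h]; simp
    · rw [← hEC, h]; simp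
  let e' := (Algebra.TensorProduct.comm k Γ(X, ⊤) L).toRingEquiv.trans e
  haveI : Nontrivial Γ(X, ⊤) := by
    by_contra h
    rw [not_nontrivial_iff_subsingleton] at h
    haveI := e'.symm.injective.subsingleton
    exact hE0 (Subsingleton.elim _ _)
  obtain ⟨F, hF, ⟨φ⟩⟩ := exists_intermediateField_algHom (k := k) (L := L) (A := Γ(X, ⊤))
    (fun a ha => GlobFun18.idem_eq_zero_or_one ha) (e'.symm E) (hE.map e'.symm)
    (fun h => hE0 (e'.symm.injective (h.trans (map_zero _).symm)))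
    (fun h => hE1 (e'.symm.injective (h.trans (map_one _).symm)))
  refine ⟨F, hF, X.toSpecΓ ≫ Spec.map (CommRingCat.ofHom φ.toRingHom), ?_⟩
  have he : CommRingCat.ofHom (algebraMap k F) ≫ CommRingCat.ofHom φ.toRingHom =
      CommRingCat.ofHom (algebraMap k Γ(X, ⊤)) := CommRingCat.hom_ext (RingHom.ext fun c => φ.commutes c)
  rw [Category.assoc, ← Spec.map_comp, he]
  rw [show CommRingCat.ofHom (algebraMap k Γ(X, ⊤)) =
    (Scheme.ΓSpecIso (CommRingCat.of k)).inv ≫ (X ↘ Spec (CommRingCat.of k)).appTop from rfl, Spec.map_comp,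
    ← Scheme.toSpecΓ_naturality_assoc]
  simp

end Groth.Agent.QsChow19
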