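import Groth.Agent.Lib.QsChow19.Rel
import Mathlib.LinearAlgebra.FiniteDimensional.Lemmas
import Mathlib.Algebra.BigOperators.Finsupp.Basic
import Mathlib.Algebra.Field.ZMod

/-! The kernel of `φ`. -/

namespace Groth.Agent.QsChow19

open MvPolynomial QsChow

variable {n : ℕ}

noncomputable def i₀ (n : ℕ) : Fin (numVars n) := ⟨0, Nat.succ_pos _⟩

/-- exponents of `ε₁^(n-1) P`. -/
noncomputable def bnd1 (n : ℕ) : Fin (numVars n) → ℕ := Function.update (bound n) (i₀ n) 1

/-- exponents of the reduced monomials `e`. -/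
noncomputable def bndE (n : ℕ) (i : Fin (numVars n)) : ℕ :=
  if i.val = 1 then 2 ^ (klog n 2 - 1) else bound n i

noncomputable def bndE1 (n : ℕ) : Fin (numVars n) → ℕ := Function.update (bndE n) (i₀ n) 1

theorem rank_nullity {V W : Type*} [AddCommGroup V] [Module (ZMod 2) V] [Module.Finite (ZMod 2) V]
    [AddCommGroup W] [Module (ZMod 2) W] (f : V →ₗ[ZMod 2] W) :
    Module.finrank (ZMod 2) (LinearMap.range f) + Module.finrank (ZMod 2) (LinearMap.ker f) =
      Module.finrank (ZMod 2) V := by
  haveI : Fact (Nat.Prime 2) := ⟨Nat.prime_two⟩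
  exact f.finrank_range_add_finrank_ker

theorem finrank_eq_zero {V : Type*} [AddCommGroup V] [Module (ZMod 2) V] [Module.Finite (ZMod 2) V]
    (S : Submodule (ZMod 2) V) (h : Module.finrank (ZMod 2) S = 0) : S = ⊥ := by
  haveI : Fact (Nat.Prime 2) := ⟨Nat.prime_two⟩
  exact Submodule.finrank_eq_zero.1 h

theorem finrank_P (n : ℕ) : Module.finrank (ZMod 2) (P n) = ∏ i, bound n i :=
  finrank_quotient_powIdl (bound n)

theorem finite_P (n : ℕ) : Module.Finite (ZMod 2) (P n) := finite_quotient_powIdl (bound n)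

theorem prod_bound (hn : 2 ≤ n) :
    ∏ i, bound n i + ∏ i, bnd1 n i = 2 * (∏ i, bndE n i + ∏ i, bndE1 n i) := by
  classical
  let i₁ : Fin (numVars n) := ⟨1, one_lt_numVars hn⟩
  have hne : i₁ ≠ i₀ n := fun h => by simpa [i₁, i₀] using congrArg Fin.val h
  have hb0 : bound n (i₀ n) = n := if_pos rfl
  have hb1 : bound n i₁ = 2 * bndE n i₁ := by
    simp only [bound, bndE, i₁, one_ne_zero, if_false, if_true]
    rw [← pow_succ', show 1 + 1 = 2 from rfl, show klog n 2 - 1 + 1 = klog n 2 by have := one_le_klog_two hn; omega]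
  have hE0 : bndE n (i₀ n) = n := by simp [bndE, i₀, bound]
  have hmem : i₁ ∈ Finset.univ \ {i₀ n} := by simp [hne]
  have key : ∀ (a : ℕ) (f : Fin (numVars n) → ℕ), ∏ i, Function.update f (i₀ n) a i =
      a * (f i₁ * ∏ i ∈ (Finset.univ \ {i₀ n}) \ {i₁}, f i) := fun a f => by
    rw [Finset.prod_update_of_mem (Finset.mem_univ _), Finset.prod_eq_mul_prod_sdiff_singleton_of_mem hmem]
  have hrest : ∏ i ∈ (Finset.univ \ {i₀ n}) \ {i₁}, bndE n i =
      ∏ i ∈ (Finset.univ \ {i₀ n}) \ {i₁}, bound n i := Finset.prod_congr rfl fun i hi => by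
    have : i ≠ i₁ := by simpa using (Finset.mem_sdiff.1 hi).2
    exact if_neg fun h => this (Fin.ext h)
  have e1 := key n (bound n)
  have e2 := key 1 (bound n)
  have e3 := key n (bndE n)
  have e4 := key 1 (bndE n)
  rw [Function.update_eq_self_iff.2 hb0.symm] at e1
  rw [Function.update_eq_self_iff.2 hE0.symm] at e3
  rw [bnd1, bndE1, e1, e2, e3, e4, hrest, hb1]
  ring

/-- `p ↦ ε₁^(n-1) p` on the polynomial ring. -/
noncomputable def topMul (n : ℕ) : FreeP n →ₗ[ZMod 2] P n :=
  (LinearMap.mulLeft (ZMod 2) (eps n 1 ^ (n - 1))).comp (Ideal.Quotient.mkₐ (ZMod 2) (truncIdeal n)).toLinearMap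

theorem topMul_apply (q : FreeP n) :
    topMul n q = eps n 1 ^ (n - 1) * Ideal.Quotient.mk (truncIdeal n) q := rfl

theorem ker_topMul (hn : 2 ≤ n) :
    LinearMap.ker (topMul n) = (powIdl (bnd1 n)).restrictScalars (ZMod 2) := by
  ext q
  simp only [LinearMap.mem_ker, Submodule.restrictScalars_mem, topMul_apply]
  constructor
  · intro h
    obtain ⟨p, hp⟩ := exists_eq_pow_mul h
    rw [show n - (n - 1) = 1 by omega, pow_one, eps_one] at hp
    obtain ⟨g, rfl⟩ := Ideal.Quotient.mk_surjective p
    rw [← map_mul, Ideal.Quotient.eq] at hp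
    have hx0 : (X (i₀ n) : FreeP n) ∈ powIdl (k := ZMod 2) (bnd1 n) :=
      Ideal.subset_span ⟨i₀ n, by simp [bnd1]⟩
    have hX : X (i₀ n) * g ∈ powIdl (k := ZMod 2) (bnd1 n) := Ideal.mul_mem_right _ _ hx0
    have hI : powIdl (k := ZMod 2) (bound n) ≤ powIdl (bnd1 n) := by
      refine Ideal.span_le.2 ?_
      rintro _ ⟨i, rfl⟩
      rcases eq_or_ne i (i₀ n) with rfl | hi
      · refine Ideal.pow_mem_of_mem _ hx0 _ ?_
        simp [bound, i₀]; omega
      · exact Ideal.subset_span ⟨i, by simp [bnd1, hi]⟩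
    have := add_mem (hI hp) hX
    rwa [i₀, sub_add_cancel] at this
  · intro h
    induction h using Submodule.span_induction with
    | mem x hx =>
      obtain ⟨i, rfl⟩ := hx
      rw [map_pow, ← eps_succ]
      rcases eq_or_ne i (i₀ n) with rfl | hi
      · rw [bnd1, Function.update_self, pow_one, show (i₀ n).val + 1 = 1 from rfl, ← pow_succ]
        rw [show n - 1 + 1 = n by omega, eps_one_pow]
      · rw [bnd1, Function.update_of_ne hi, eps_pow_bound, mul_zero]
    | zero => rw [map_zero, mul_zero]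
    | add x y _ _ hx hy => rw [map_add, mul_add, hx, hy, add_zero]
    | smul a x _ hx => rw [smul_eq_mul, map_mul, mul_left_comm, hx, mul_zero]

theorem finrank_range_topMul (hn : 2 ≤ n) :
    Module.finrank (ZMod 2) (LinearMap.range (topMul n)) = ∏ i, bnd1 n i := by
  rw [← (topMul n).quotKerEquivRange.finrank_eq, ker_topMul hn,
    (Submodule.Quotient.restrictScalarsEquiv (ZMod 2) (powIdl (bnd1 n))).finrank_eq]
  exact finrank_quotient_powIdl _

theorem finrank_C (hn : 2 ≤ n) :
    2 * Module.finrank (ZMod 2) (phi n).range = ∏ i, bound n i + ∏ i, bnd1 n i := by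
  haveI := finite_P n
  obtain ⟨τ, hτ1, hτ⟩ := exists_tau hn
  let T : P n →ₗ[ZMod 2] P n := LinearMap.id + τ.toLinearMap
  have hker : LinearMap.ker T = Subalgebra.toSubmodule (phi n).range := by
    ext z
    rw [LinearMap.mem_ker, Subalgebra.mem_toSubmodule, ← fixed_iff hn hτ1 hτ]
    show z + τ z = 0 ↔ _
    constructor <;> intro h
    · linear_combination h - z * two_eq_zero (n := n)
    · rw [h]; linear_combination z * two_eq_zero (n := n)
  let M : (Subalgebra.toSubmodule (phi n).range) →ₗ[ZMod 2] P n :=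
    (LinearMap.mulLeft (ZMod 2) (eps n 1)).domRestrict _
  have hrange : LinearMap.range T = LinearMap.range M := by
    ext v
    constructor
    · rintro ⟨y, rfl⟩
      obtain ⟨a, ha, b, hb, rfl⟩ := exists_decomp hn y
      exact ⟨⟨b, hb⟩, (add_tau_decomp hn hτ1 hτ ha hb).symm⟩
    · rintro ⟨⟨b, hb⟩, rfl⟩
      exact ⟨0 + eps n 2 * b, add_tau_decomp hn hτ1 hτ (zero_mem _) hb⟩
  have hle : LinearMap.range (topMul n) ≤ Subalgebra.toSubmodule (phi n).range := by
    rintro _ ⟨q, rfl⟩
    refine (mem_of_eps_mul_eq_zero hn ?_).1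
    rw [topMul_apply, ← mul_assoc, ← pow_succ', show n - 1 + 1 = n by omega, eps_one_pow, zero_mul]
  have hkM : LinearMap.ker M = (LinearMap.range (topMul n)).comap (Subalgebra.toSubmodule (phi n).range).subtype := by
    ext ⟨b, hb⟩
    simp only [LinearMap.mem_ker, Submodule.mem_comap, LinearMap.mem_range]
    show eps n 1 * b = 0 ↔ _
    constructor
    · intro h
      obtain ⟨q, hq⟩ := exists_eq_pow_mul (m := 1) (by rwa [pow_one])
      obtain ⟨f, rfl⟩ := Ideal.Quotient.mk_surjective q
      exact ⟨f, by rw [topMul_apply]; exact hq.symm⟩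
    · rintro ⟨q, hq⟩
      rw [show b = topMul n q from hq.symm, topMul_apply, ← mul_assoc, ← pow_succ',
        show n - 1 + 1 = n by omega, eps_one_pow, zero_mul]
  have h1 := rank_nullity T
  have h2 := rank_nullity M
  rw [hkM, (Submodule.comapSubtypeEquivOfLe hle).finrank_eq, finrank_range_topMul hn] at h2
  rw [hrange, hker, finrank_P] at h1
  have h3 : Module.finrank (ZMod 2) (Subalgebra.toSubmodule (phi n).range) =
      Module.finrank (ZMod 2) (phi n).range := rfl
  omega

/-- Monomials in the variables `e`. -/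
noncomputable def mon (d : Fin (numVars n) →₀ ℕ) : FreeE n :=
  rename some (monomial d (1 : ZMod 2))

/-- Their total degree outside `e₁`. -/
noncomputable def wdeg (d : Fin (numVars n) →₀ ℕ) : ℕ := ∑ i ∈ Finset.univ.erase (i₀ n), d i

theorem mon_add (a b : Fin (numVars n) →₀ ℕ) : mon (a + b) = mon a * mon b := by
  rw [mon, mon, mon, ← map_mul, monomial_mul, one_mul]

theorem mon_single (i : Fin (numVars n)) (r : ℕ) : mon (Finsupp.single i r) = evar n (i.val + 1) ^ r := by
  rw [mon, ← X_pow_eq_monomial, map_pow, rename_X]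
  unfold evar
  rw [dif_pos ⟨Nat.succ_pos _, i.isLt⟩]
  rfl

theorem mon_zero : mon (0 : Fin (numVars n) →₀ ℕ) = 1 := by
  rw [mon, monomial_zero', C_1, map_one]

theorem wdeg_add (a b : Fin (numVars n) →₀ ℕ) : wdeg (a + b) = wdeg a + wdeg b :=
  Finset.sum_add_distrib

theorem wdeg_single (i : Fin (numVars n)) (r : ℕ) :
    wdeg (Finsupp.single i r) = if i = i₀ n then 0 else r := by
  classical
  simp only [wdeg, Finsupp.single_apply, Finset.sum_ite_eq, Finset.mem_erase, Finset.mem_univ, and_true]
  split_ifs <;> simp_all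

/-- The reduced monomials. -/
noncomputable def redMon (n : ℕ) : (∀ i, Fin (bndE n i)) ⊕ (∀ i, Fin (bndE1 n i)) → FreeE n ⧸ presIdeal n
  | .inl x => Ideal.Quotient.mk _ (mon (toDeg x))
  | .inr x => Ideal.Quotient.mk _ (xvar n * mon (toDeg x))

theorem mk_pres {q : FreeE n} (h : q ∈ ({evar n 1 ^ n, evar n 1 * xvar n, xvar n ^ 2} ∪
    Set.range fun i : Fin (numVars n) => hrel n (i.val + 1) : Set (FreeE n))) :
    Ideal.Quotient.mk (presIdeal n) q = 0 :=
  Ideal.Quotient.eq_zero_iff_mem.2 (Ideal.subset_span h)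

theorem mem_span_redMon (hn : 2 ≤ n) (d : Fin (numVars n) →₀ ℕ) (c : ℕ) :
    Ideal.Quotient.mk (presIdeal n) (xvar n ^ c * mon d) ∈ Submodule.span (ZMod 2) (Set.range (redMon n)) := by
  classical
  induction h : wdeg d using Nat.strong_induction_on generalizing d c with
  | _ m IH =>
    subst h
    set i₁ : Fin (numVars n) := ⟨1, one_lt_numVars hn⟩
    set π := Ideal.Quotient.mk (presIdeal n)
    have hne : i₁ ≠ i₀ n := fun h => by simpa [i₁, i₀] using congrArg Fin.val h
    by_cases hbad : ∃ i, i ≠ i₀ n ∧ bndE n i ≤ d i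
    · obtain ⟨i, hi, hle⟩ := hbad
      have step : ∀ (k A : ℕ) (f : ℕ → ℕ), (∀ t < k, 2 ^ t < bndE n i) →
          π (evar n (i.val + 1) ^ bndE n i) = π (evar n 1 ^ A * xvar n) +
            ∑ t ∈ Finset.range k, π (evar n 1 ^ f t * evar n 2 ^ 2 ^ t) →
          π (xvar n ^ c * mon d) ∈ Submodule.span (ZMod 2) (Set.range (redMon n)) := by
        intro k A f hk he
        obtain ⟨d', rfl⟩ : ∃ d', d = Finsupp.single i (bndE n i) + d' :=
          ⟨d - Finsupp.single i (bndE n i), (add_tsub_cancel_of_le (Finsupp.single_le_iff.2 hle)).symm⟩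
        have hd : wdeg (Finsupp.single i (bndE n i) + d') = bndE n i + wdeg d' := by
          rw [wdeg_add, wdeg_single, if_neg hi]
        have hpos : 0 < bndE n i := by
          unfold bndE bound
          split_ifs with h1 h0
          · exact Nat.two_pow_pos _
          · omega
          · exact Nat.two_pow_pos _
        rw [mon_add, mon_single, map_mul, map_mul, he, add_mul, mul_add, Finset.sum_mul, Finset.mul_sum]
        refine add_mem ?_ (sum_mem fun t ht => ?_)
        · have := IH (wdeg (Finsupp.single (i₀ n) A + d')) (by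
            rw [wdeg_add, wdeg_single, if_pos rfl, hd]; omega) (Finsupp.single (i₀ n) A + d') (c + 1) rfl
          convert this using 1
          rw [mon_add, mon_single, show (i₀ n).val + 1 = 1 from rfl]
          simp only [map_mul, map_pow, pow_succ]
          ring
        · have := IH (wdeg (Finsupp.single (i₀ n) (f t) + Finsupp.single i₁ (2 ^ t) + d')) (by
            have := hk t (Finset.mem_range.1 ht)
            rw [wdeg_add, wdeg_add, wdeg_single, wdeg_single, if_pos rfl, if_neg hne, hd]; omega)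
            (Finsupp.single (i₀ n) (f t) + Finsupp.single i₁ (2 ^ t) + d') c rfl
          convert this using 1
          rw [mon_add, mon_add, mon_single, mon_single, show (i₀ n).val + 1 = 1 from rfl,
            show i₁.val + 1 = 2 from rfl]
          simp only [map_mul, map_pow]
          try ring
      have two : (2 : FreeE n ⧸ presIdeal n) = 0 := by
        rw [← map_ofNat π 2, two_eq_zeroE, map_zero]
      by_cases h1 : i.val = 1
      · obtain ⟨K, hK⟩ : ∃ K, klog n 2 = K + 1 := ⟨klog n 2 - 1, by have := one_le_klog_two hn; omega⟩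
        refine step K (2 ^ (K + 1) - n) (fun t => 2 ^ (K + 1) - 2 ^ (t + 1)) (fun t ht => ?_) ?_
        · rw [bndE, if_pos h1, hK, Nat.add_sub_cancel]
          exact Nat.pow_lt_pow_right one_lt_two ht
        · have h := mk_pres (n := n) (q := hrel n 2) (Or.inr ⟨i₁, rfl⟩)
          rw [hrel, if_pos rfl, sPoly, hK, Finset.sum_range_succ, Nat.sub_self, pow_zero, one_mul,
            map_add, map_add, map_sum] at h
          rw [h1, bndE, if_pos h1, hK, Nat.add_sub_cancel, show (1 : ℕ) + 1 = 2 from rfl]
          linear_combination h - (π (evar n 1 ^ (2 ^ (K + 1) - n) * xvar n) +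
            ∑ t ∈ Finset.range K, π (evar n 1 ^ (2 ^ (K + 1) - 2 ^ (t + 1)) * evar n 2 ^ 2 ^ t)) * two
      · have h0 : i.val ≠ 0 := fun h => hi (Fin.ext h)
        have hb : bndE n i = 2 ^ klog n (i.val + 1) := by rw [bndE, if_neg h1, bound, if_neg h0]
        set j := i.val + 1
        refine step (klog n j) ((2 * j - 3) * 2 ^ klog n j - n)
          (fun t => (2 * j - 4) * 2 ^ klog n j + (2 ^ klog n j - 2 ^ (t + 1))) (fun t ht => ?_) ?_
        · rw [hb]
          exact Nat.pow_lt_pow_right one_lt_two ht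
        · have h := mk_pres (n := n) (q := hrel n j) (Or.inr ⟨i, rfl⟩)
          rw [hrel, if_neg (by omega), if_pos ⟨by omega, i.isLt⟩, sPoly, Finset.mul_sum,
            map_add, map_add, map_sum] at h
          rw [hb]
          have hs : ∑ t ∈ Finset.range (klog n j),
              π (evar n 1 ^ ((2 * j - 4) * 2 ^ klog n j + (2 ^ klog n j - 2 ^ (t + 1))) * evar n 2 ^ 2 ^ t) =
              ∑ t ∈ Finset.range (klog n j), π (evar n 1 ^ ((2 * j - 4) * 2 ^ klog n j) *
                (evar n 1 ^ (2 ^ klog n j - 2 ^ (t + 1)) * evar n 2 ^ 2 ^ t)) :=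
            Finset.sum_congr rfl fun t _ => by rw [pow_add, mul_assoc]
          rw [hs]
          linear_combination h - (π (evar n 1 ^ ((2 * j - 3) * 2 ^ klog n j - n) * xvar n) +
            ∑ t ∈ Finset.range (klog n j), π (evar n 1 ^ ((2 * j - 4) * 2 ^ klog n j) *
              (evar n 1 ^ (2 ^ klog n j - 2 ^ (t + 1)) * evar n 2 ^ 2 ^ t))) * two
    · push Not at hbad
      have hd : ∀ (A : ℕ), A ≤ d (i₀ n) →
          xvar n ^ c * mon d = xvar n ^ c * evar n 1 ^ A * mon (d - Finsupp.single (i₀ n) A) := fun A hA => by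
        conv_lhs => rw [← add_tsub_cancel_of_le (Finsupp.single_le_iff.2 hA), mon_add, mon_single]
        rw [mul_assoc, show (i₀ n).val + 1 = 1 from rfl]
      match c with
      | 0 =>
        by_cases h0 : n ≤ d (i₀ n)
        · rw [hd n h0, map_mul, map_mul, mk_pres (Or.inl (Or.inl rfl)), mul_zero, zero_mul]
          exact zero_mem _
        · have hlt : ∀ i, d i < bndE n i := fun i => by
            rcases eq_or_ne i (i₀ n) with rfl | hi
            · simpa [bndE, i₀, bound] using not_le.1 h0
            · exact hbad i hi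
          refine Submodule.subset_span ⟨.inl fun i => ⟨d i, hlt i⟩, ?_⟩
          rw [pow_zero, one_mul]
          exact congrArg (fun e => π (mon e)) (Finsupp.ext fun i => rfl)
      | 1 =>
        by_cases h0 : 1 ≤ d (i₀ n)
        · rw [hd 1 h0, pow_one, pow_one, map_mul, mul_comm (xvar n),
            mk_pres (Or.inl (Or.inr (Or.inl rfl))), zero_mul]
          exact zero_mem _
        · have hlt : ∀ i, d i < bndE1 n i := fun i => by
            rcases eq_or_ne i (i₀ n) with rfl | hi
            · simp [bndE1]; omega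
            · rw [bndE1, Function.update_of_ne hi]; exact hbad i hi
          refine Submodule.subset_span ⟨.inr fun i => ⟨d i, hlt i⟩, ?_⟩
          rw [pow_one]
          exact congrArg (fun e => π (xvar n * mon e)) (Finsupp.ext fun i => rfl)
      | c + 2 =>
        rw [pow_add, map_mul, map_mul, mk_pres (Or.inl (Or.inr (Or.inr rfl))), mul_zero, zero_mul]
        exact zero_mem _

theorem span_redMon (hn : 2 ≤ n) : Submodule.span (ZMod 2) (Set.range (redMon n)) = ⊤ := by
  rw [eq_top_iff]
  rintro z -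
  obtain ⟨q, rfl⟩ := Ideal.Quotient.mk_surjective z
  suffices h : ∀ d c, Ideal.Quotient.mk (presIdeal n) (q * (xvar n ^ c * mon d)) ∈
      Submodule.span (ZMod 2) (Set.range (redMon n)) by
    simpa [mon_zero] using h 0 0
  induction q using MvPolynomial.induction_on with
  | C r =>
    intro d c
    have := Submodule.smul_mem _ r (mem_span_redMon hn d c)
    convert this using 1
    rw [map_mul]
    exact (Algebra.smul_def (A := FreeE n ⧸ presIdeal n) r _).symm
  | add p q hp hq =>
    intro d c
    rw [add_mul, map_add]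
    exact add_mem (hp d c) (hq d c)
  | mul_X p o hp =>
    intro d c
    rcases o with _ | i
    · convert hp d (c + 1) using 2
      simp only [xvar, pow_succ]
      ring
    · convert hp (Finsupp.single i 1 + d) c using 2
      rw [mon_add, mon_single, pow_one]
      unfold evar
      rw [dif_pos ⟨Nat.succ_pos _, i.isLt⟩]
      simp only [Nat.add_sub_cancel, Fin.eta]
      ring

theorem ker_phi_eq (hn : 2 ≤ n) : RingHom.ker (phi n) = presIdeal n := by
  classical
  refine le_antisymm ?_ (presIdeal_le_ker hn)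
  haveI : Module.Finite (ZMod 2) (FreeE n ⧸ presIdeal n) := ⟨⟨(Finset.univ.image (redMon n)), by
    rw [Finset.coe_image, Finset.coe_univ, Set.image_univ]; exact span_redMon hn⟩⟩
  haveI := finite_P n
  let L : (FreeE n ⧸ presIdeal n) →ₗ[ZMod 2] P n :=
    (Ideal.Quotient.liftₐ (presIdeal n) (phi n) fun a ha => presIdeal_le_ker hn ha).toLinearMap
  have hQ : Module.finrank (ZMod 2) (FreeE n ⧸ presIdeal n) ≤ ∏ i, bndE n i + ∏ i, bndE1 n i := by
    rw [← finrank_top, ← span_redMon hn]
    refine (finrank_range_le_card (redMon n)).trans (le_of_eq ?_)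
    simp
  have hr : LinearMap.range L = Subalgebra.toSubmodule (phi n).range := by
    ext z
    constructor
    · rintro ⟨q, rfl⟩
      obtain ⟨f, rfl⟩ := Ideal.Quotient.mk_surjective q
      exact ⟨f, rfl⟩
    · rintro ⟨f, rfl⟩
      exact ⟨Ideal.Quotient.mk _ f, rfl⟩
  have h := rank_nullity L
  rw [hr] at h
  have h2 := finrank_C hn
  have h3 : Module.finrank (ZMod 2) (Subalgebra.toSubmodule (phi n).range) =
      Module.finrank (ZMod 2) (phi n).range := rfl
  rw [prod_bound hn] at h2
  have hk : LinearMap.ker L = ⊥ := finrank_eq_zero _ (by omega)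
  intro q hq
  rw [← Ideal.Quotient.eq_zero_iff_mem]
  exact LinearMap.ker_eq_bot.1 hk (by rw [map_zero]; exact hq)

end Groth.Agent.QsChow19
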