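import Groth.Prelude.Def_W4c4chowquasisplitNorm
import Mathlib.AlgebraicGeometry.ResidueField

/-! Norm subgroups of schemes defined over an intermediate field. -/

set_option backward.isDefEq.respectTransparency.types false

universe u

open CategoryTheory AlgebraicGeometry

namespace Groth.Agent.QsChow19

theorem residueFieldMap_surjective_of_eq_id {X : Scheme.{u}} (f : X ⟶ X) (hf : f = 𝟙 X) (x : X) :
    Function.Bijective (f.residueFieldMap x) := by
  subst hf
  rw [Scheme.residueFieldMap_id]
  exact Function.bijective_id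

/-- A point in the image of a section has residue degree one. -/
theorem residueDegree_section {X Y : Scheme.{u}} (π : Y ⟶ X) (s : X ⟶ Y) (hs : s ≫ π = 𝟙 X) (x : X) :
    π.residueDegree (s x) = 1 := by
  have hb := residueFieldMap_surjective_of_eq_id _ hs x
  rw [Scheme.residueFieldMap_comp] at hb
  have hs' : Function.Surjective (s.residueFieldMap x) := fun z => by
    obtain ⟨c, hc⟩ := hb.2 z
    exact ⟨_, hc⟩
  have hπ : Function.Bijective (π.residueFieldMap (s x)) := by
    refine ⟨(π.residueFieldMap (s x)).hom.injective, fun z => ?_⟩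
    obtain ⟨c, hc⟩ := hb.2 (s.residueFieldMap x z)
    exact ⟨c, (s.residueFieldMap x).hom.injective hc⟩
  letI := (π.residueFieldMap (s x)).hom.toAlgebra
  show Module.finrank _ _ = 1
  rw [← CommSemiring.finrank_self (X.residueField (π (s x)))]
  exact (Algebra.finrank_eq_of_equiv_equiv (RingEquiv.refl _) (RingEquiv.ofBijective _ hπ) (RingHom.ext fun _ => rfl)).symm

variable (k : Type u) [Field k] (K : Type u) [Field K] [Algebra k K]

/-- The norm subgroup is everything if the scheme is defined over an intermediate field. -/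
theorem normSubgroup_eq_top (F : IntermediateField k K) [FiniteDimensional k F] (hF : F ≠ ⊥)
    (X : Scheme.{u}) [X.Over (Spec (CommRingCat.of k))] (g : X ⟶ Spec (CommRingCat.of F))
    (hg : g ≫ Spec.map (CommRingCat.ofHom (algebraMap k F)) = X ↘ Spec (CommRingCat.of k))
    (δ : X → ℤ) (j : ℤ) : QsChow.normSubgroup k K X δ j = ⊤ := by
  classical
  rw [eq_top_iff]
  rintro c -
  obtain ⟨⟨a, ha⟩, rfl⟩ := QuotientAddGroup.mk_surjective c
  let π := Curv2.bcFst k X F
  let s : X ⟶ Curv2.bc k X F := Limits.pullback.lift (𝟙 X) g (by rw [Category.id_comp]; exact hg.symm)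
  have hs : s ≫ π = 𝟙 X := Limits.pullback.lift_fst _ _ _
  have hπs : ∀ x, π (s x) = x := fun x => by rw [← Scheme.Hom.comp_apply, hs]; rfl
  let α : AlgebraicCycle (Curv2.bc k X F) ℤ :=
    { toFun := fun y => if y ∈ Set.range s then a (π y) else 0
      supportWithinDomain' := by simp
      supportLocallyFiniteWithinDomain' := fun y _ => by
        obtain ⟨t, ht, hfin⟩ := a.supportLocallyFiniteWithinDomain' (π y) trivial
        refine ⟨π ⁻¹' t, π.continuous.continuousAt.preimage_mem_nhds ht, ?_⟩
        refine (hfin.image s).subset ?_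
        rintro z ⟨hzt, hz⟩
        simp only [Function.mem_support, ne_eq, ite_eq_right_iff, Classical.not_imp] at hz
        obtain ⟨⟨x, rfl⟩, hz⟩ := hz
        refine ⟨x, ⟨?_, ?_⟩, rfl⟩
        · have : π (s x) ∈ t := hzt
          rwa [hπs] at this
        · rwa [hπs] at hz }
  have hα : α ∈ Cyc.Zk (Curv2.bc k X F) (δ ∘ ⇑π.base) j := fun y hy => by
    show (if y ∈ Set.range s then a (π y) else 0) = 0
    rw [ha (π y) hy, ite_self]
  have hmap : AlgebraicCycle.map π (δ ∘ ⇑π.base) δ α = a := by
    refine DFunLike.ext _ _ fun x => ?_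
    refine (finsum_eq_single _ (s x) fun y hy => ?_).trans ?_
    · refine finsum_eq_if.trans ?_
      split_ifs with hmem
      · have hyr : ¬ y ∈ Set.range s := by
          rintro ⟨x', rfl⟩
          exact hy (by rw [show x' = x from (hπs x').symm.trans hmem])
        show (if y ∈ Set.range s then a (π y) else 0) * _ = 0
        rw [if_neg hyr, zero_mul]
      · rfl
    · refine finsum_eq_if.trans ((if_pos (hπs x)).trans ?_)
      show (if s x ∈ Set.range s then a (π (s x)) else 0) *
        ((if (δ ∘ ⇑π.base) (s x) = δ (π.base (s x)) then π.residueDegree (s x) else 0 : ℕ) : ℤ) = a x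
      rw [if_pos ⟨x, rfl⟩, if_pos (show (δ ∘ ⇑π.base) (s x) = δ (π.base (s x)) from rfl), residueDegree_section π s hs, hπs, Nat.cast_one, mul_one]
  refine AddSubgroup.subset_closure ⟨F, inferInstance, hF, α, hα, hmap.symm ▸ ha, ?_⟩
  show QuotientAddGroup.mk' _ _ = QuotientAddGroup.mk' _ _
  congr 1
  exact Subtype.ext hmap.symm

end Groth.Agent.QsChow19
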