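import Groth.Agent.Lib.QsChow19.Ker
import Groth.Prelude.Def_W4c4chowquasisplitPn2
import Mathlib.NumberTheory.Padics.PadicVal.Basic
import Mathlib.RingTheory.Ideal.Span

/-! Presentations of the fixed algebra modulo a power of `ε₁`. -/

namespace Groth.Agent.QsChow19

open MvPolynomial QsChow

variable {n : ℕ}

/-- Inclusion forgetting `x`. -/
noncomputable abbrev incl (n : ℕ) : FreeP n →ₐ[ZMod 2] FreeE n := rename some

/-- Substitution of `y` for `x`. -/
noncomputable def retr (n : ℕ) (y : FreeP n) : FreeE n →ₐ[ZMod 2] FreeP n :=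
  aeval fun o => o.elim y fun i => X i

theorem retr_incl (y q : FreeP n) : retr n y (incl n q) = q := by
  rw [retr, incl, aeval_rename]
  exact aeval_X_left_apply q

theorem retr_xvar (y : FreeP n) : retr n y (xvar n) = y := aeval_X _ _

theorem retr_evar (y : FreeP n) (j : ℕ) : retr n y (evar n j) = evarE n j := by
  unfold evar evarE
  split_ifs with h
  · rw [retr, aeval_X]; rfl
  · exact map_zero _

theorem incl_evarE (j : ℕ) : incl n (evarE n j) = evar n j := by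
  unfold evar evarE
  split_ifs with h
  · exact rename_X _ _
  · exact map_zero _

theorem psi_eq (q : FreeP n) : psi n q = phi n (incl n q) := by
  rw [psi, phi, incl, aeval_rename]
  rfl

theorem exists_fixed_iff (hn : 2 ≤ n) {τ : P n →ₐ[ZMod 2] P n} (hτ1 : τ (eps n 1) = eps n 1)
    (hτ : ∀ j : ℕ, 2 ≤ j → j ≤ numVars n → τ (eps n j) = eps n j + eps n 1 ^ (2 * j - 3))
    (r : ℕ) (q : FreeE n) :
    (∃ w : P n, τ w = w ∧ phi n q = eps n 1 ^ r * w) ↔ q ∈ Ideal.span {evar n 1 ^ r} ⊔ presIdeal n := by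
  rw [← ker_phi_eq hn]
  constructor
  · rintro ⟨w, hw, h⟩
    obtain ⟨g, rfl⟩ := mem_of_fixed hn hτ1 hτ hw
    have e : q = evar n 1 ^ r * g + (q - evar n 1 ^ r * g) := by ring
    rw [e]
    refine Submodule.add_mem_sup (Ideal.mul_mem_right _ _ (Ideal.mem_span_singleton_self _)) ?_
    rw [RingHom.mem_ker, map_sub, map_mul, map_pow, phi_evar_one, h, sub_eq_zero]
    rfl
  · intro h
    obtain ⟨a, ha, b, hb, rfl⟩ := Submodule.mem_sup.1 h
    obtain ⟨g, rfl⟩ := Ideal.mem_span_singleton.1 ha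
    refine ⟨phi n g, tau_fix hn hτ1 hτ ⟨g, rfl⟩, ?_⟩
    rw [map_add, RingHom.mem_ker.1 hb, add_zero, map_mul, map_pow, phi_evar_one]

theorem log_div_cases {d : ℕ} (hd : d ≤ 2 * n) (hd0 : 0 < d) :
    Nat.log 2 (2 * n / d) = Nat.log 2 ((2 * n - 1) / d) ∨ d * 2 ^ Nat.log 2 (2 * n / d) = 2 * n := by
  rcases eq_or_lt_of_le (Nat.log_mono_right (b := 2) (Nat.div_le_div_right (c := d) (Nat.sub_le (2 * n) 1))) with h | h
  · exact Or.inl h.symm
  · refine Or.inr (le_antisymm ?_ ?_)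
    · rw [mul_comm]
      exact (Nat.le_div_iff_mul_le hd0).1 (Nat.pow_log_le_self 2 (Nat.div_pos hd hd0).ne')
    · have h1 : (2 * n - 1) / d < 2 ^ Nat.log 2 (2 * n / d) :=
        (Nat.lt_pow_succ_log_self one_lt_two _).trans_le (Nat.pow_le_pow_right two_pos h)
      have := (Nat.div_lt_iff_lt_mul hd0).1 h1
      rw [mul_comm (2 ^ _) d] at this
      omega

theorem odd_part_unique {d c m a : ℕ} (hd : Odd d) (hc : Odd c) (h : d * 2 ^ m = 2 ^ a * c) : d = c := by
  have hd' : Nat.Coprime d (2 ^ a) := (Nat.coprime_two_right.2 hd).pow_right _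
  have hc' : Nat.Coprime c (2 ^ m) := (Nat.coprime_two_right.2 hc).pow_right _
  exact Nat.dvd_antisymm (hd'.dvd_of_dvd_mul_left ⟨_, h.symm⟩)
    (hc'.dvd_of_dvd_mul_right ⟨2 ^ a, by rw [h, mul_comm]⟩)

theorem range_facts {j : ℕ} (h3 : 3 ≤ j) (hj : j ≤ numVars n) :
    3 ≤ 2 * j - 3 ∧ 2 * j - 3 < n ∧ Odd (2 * j - 3) := by
  unfold numVars at hj
  exact ⟨by omega, by omega, ⟨j - 2, by omega⟩⟩

theorem kprime_eq {j : ℕ} (h3 : 3 ≤ j) : kprime n j = Nat.log 2 (2 * n / (2 * j - 3)) := by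
  rw [kprime, if_neg (by omega), if_neg (by omega)]

section OddPart

variable {a c : ℕ} (hc : Odd c) (h3c : 3 ≤ c) (hnc : n = 2 ^ a * c)
include hc h3c hnc

theorem log_facts : a ≤ Nat.log 2 n ∧ klog n 2 = Nat.log 2 n + 1 ∧ n < 2 ^ (Nat.log 2 n + 1) := by
  have ha := Nat.one_le_two_pow (n := a)
  have hn : n ≠ 0 := by rw [hnc]; positivity
  have h1 := Nat.pow_log_le_self 2 hn
  have h2 := Nat.lt_pow_succ_log_self one_lt_two n
  have hne : 2 ^ Nat.log 2 n ≠ n := fun h => by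
    have := odd_part_unique (m := Nat.log 2 n) (a := a) odd_one hc (by rw [one_mul, h, hnc])
    omega
  refine ⟨Nat.le_log_of_pow_le one_lt_two (hnc ▸ Nat.le_mul_of_pos_right _ (by omega)), ?_, h2⟩
  unfold klog
  simp only [show 2 * 2 - 3 = 1 from rfl, Nat.div_one]
  refine Nat.log_eq_of_pow_le_of_lt_pow ?_ ?_
  · rw [pow_succ]; omega
  · rw [pow_succ 2 (Nat.log 2 n + 1)]; omega

theorem hrel_two_sub_mem {I : Ideal (FreeE n)} (hR : evar n 1 ^ 2 ^ a ∈ I) (hx : evar n 1 * xvar n ∈ I) :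
    hrel n 2 - evar n 2 ^ 2 ^ Nat.log 2 n ∈ I := by
  obtain ⟨hL, hK, hlt⟩ := log_facts hc h3c hnc
  rw [hrel, if_pos rfl, sPoly, hK, Finset.sum_range_succ, Nat.sub_self, pow_zero, one_mul,
    ← add_assoc, add_sub_cancel_right]
  refine add_mem (Ideal.mem_of_dvd _ ?_ hx) (sum_mem fun t ht => Ideal.mem_of_dvd _ ?_ hR)
  · exact mul_dvd_mul (dvd_pow_self _ (by omega)) dvd_rfl
  · refine Dvd.dvd.mul_right (pow_dvd_pow _ ?_) _
    have h1 : 2 ^ (t + 1) ≤ 2 ^ Nat.log 2 n := Nat.pow_le_pow_right two_pos (Finset.mem_range.1 ht)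
    have h2 : 2 ^ a ≤ 2 ^ Nat.log 2 n := Nat.pow_le_pow_right two_pos hL
    rw [pow_succ 2 (Nat.log 2 n)]
    omega

theorem hrel_sub_mem {I : Ideal (FreeE n)} (hn : 2 ≤ n) {j : ℕ} (h3 : 3 ≤ j) (hj : j ≤ numVars n)
    (hR : evar n 1 ^ 2 ^ a ∈ I) (hx : evar n 1 * xvar n ∈ I) :
    (2 * j - 3 ≠ c → kprime n j = klog n j ∧ hrel n j - evar n j ^ 2 ^ kprime n j ∈ I) ∧
    (2 * j - 3 = c → kprime n j = a + 1 ∧ hrel n j - (evar n j ^ 2 ^ a + xvar n) ∈ I) := by
  obtain ⟨hd3, hdn, hodd⟩ := range_facts h3 hj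
  have hN := le_mul_two_pow hn (show 2 ≤ j by omega)
  set d := 2 * j - 3 with hd
  set k := klog n j with hk
  have e : 2 * j - 4 + 1 = d := by omega
  have hS : evar n 1 ^ ((2 * j - 4) * 2 ^ k) * sPoly n j ∈ I := by
    refine Ideal.mul_mem_right _ _ (Ideal.mem_of_dvd _ (pow_dvd_pow _ ?_) hR)
    have h1 : 2 ^ a * 3 ≤ (2 * j - 4 + 1) * 2 ^ k := (Nat.mul_le_mul_left _ h3c).trans (by rw [← hnc, e]; exact hN)
    have h2 : 2 ^ k * 2 ≤ (2 * j - 4) * 2 ^ k := by
      rw [mul_comm]; exact Nat.mul_le_mul_right _ (by omega)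
    rw [add_mul, one_mul] at h1
    omega
  have hh : hrel n j = evar n j ^ 2 ^ k + evar n 1 ^ (d * 2 ^ k - n) * xvar n +
      evar n 1 ^ ((2 * j - 4) * 2 ^ k) * sPoly n j := by
    rw [hrel, if_neg (by omega), if_pos ⟨h3, hj⟩]
  constructor
  · intro hdc
    have hkp : kprime n j = k := by
      rw [kprime_eq h3]
      refine (log_div_cases (n := n) (by omega) (by omega)).resolve_right fun h => hdc ?_
      exact odd_part_unique (m := Nat.log 2 (2 * n / d)) (a := a + 1) hodd hc (by rw [h, pow_succ, hnc]; ring)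
    have hlt : 0 < d * 2 ^ k - n := by
      rcases hN.eq_or_lt with h | h
      · exact absurd (odd_part_unique (m := k) hodd hc (h.symm.trans hnc)) hdc
      · omega
    refine ⟨hkp, ?_⟩
    rw [hkp, hh, add_assoc, add_sub_cancel_left]
    exact add_mem (Ideal.mem_of_dvd _ (mul_dvd_mul (dvd_pow_self _ hlt.ne') dvd_rfl) hx) hS
  · intro hdc
    have hc0 : 0 < c := by omega
    have hka : k = a := by
      rw [hk, klog, ← hd, hdc]
      refine Nat.log_eq_of_pow_le_of_lt_pow ?_ ?_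
      · rw [Nat.le_div_iff_mul_le hc0, ← hnc]; omega
      · rw [Nat.div_lt_iff_lt_mul hc0, pow_succ, mul_right_comm, ← hnc]; omega
    refine ⟨?_, ?_⟩
    · rw [kprime_eq h3, ← hd, hdc, hnc, show 2 * (2 ^ a * c) = 2 ^ (a + 1) * c by ring, Nat.mul_div_cancel _ hc0,
        Nat.log_pow one_lt_two]
    · rw [hh, hka, hdc, show c * 2 ^ a - n = 0 by rw [hnc, mul_comm]; omega, pow_zero, one_mul]
      rw [hka] at hS
      convert hS using 1
      ring

end OddPart

theorem kprime_one : kprime n 1 = twoExp n := by rw [kprime, if_pos rfl]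

theorem kprime_two : kprime n 2 = Nat.log 2 n := by rw [kprime, if_neg (by omega), if_pos rfl]

theorem hrel_one : hrel n 1 = 0 := by rw [hrel, if_neg (by omega), if_neg (by omega)]

theorem exists_odd_part (hn : n ≠ 0) (h : n ≠ 2 ^ twoExp n) :
    ∃ c, Odd c ∧ 3 ≤ c ∧ n = 2 ^ twoExp n * c := by
  haveI : Fact (Nat.Prime 2) := ⟨Nat.prime_two⟩
  obtain ⟨c, hc⟩ : 2 ^ twoExp n ∣ n := pow_padicValNat_dvd
  have hodd : Odd c := by
    rw [← Nat.not_even_iff_odd, even_iff_two_dvd]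
    rintro ⟨t, rfl⟩
    refine pow_succ_padicValNat_not_dvd (p := 2) hn ⟨t, ?_⟩
    rw [show padicValNat 2 n = twoExp n from rfl, pow_succ, mul_assoc]
    exact hc
  refine ⟨c, hodd, ?_, hc⟩
  obtain ⟨t, ht⟩ := hodd
  rcases Nat.eq_zero_or_pos t with rfl | ht0
  · exact absurd (hc.trans (by rw [ht]; simp)) h
  · omega

theorem oddIdeal_eq (hn : 2 ≤ n) (hodd : Odd n) :
    Ideal.span {evar n 1 ^ 1} ⊔ presIdeal n = oddIdeal n := by
  have ha : twoExp n = 0 := padicValNat.eq_zero_of_not_dvd hodd.not_two_dvd_nat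
  obtain ⟨t, ht⟩ := hodd
  have h3 : 3 ≤ n := by omega
  have hnc : n = 2 ^ 0 * n := by simp
  have hR : ∀ I : Ideal (FreeE n), evar n 1 ∈ I → evar n 1 ^ 2 ^ 0 ∈ I ∧ evar n 1 * xvar n ∈ I := fun I h =>
    ⟨by simpa using h, Ideal.mul_mem_right _ _ h⟩
  apply le_antisymm
  · have he : evar n 1 ∈ oddIdeal n := Ideal.subset_span (Or.inl (Or.inl rfl))
    obtain ⟨h1, h2⟩ := hR _ he
    refine sup_le ((Ideal.span_singleton_le_iff_mem _).2 (by rwa [pow_one])) (Ideal.span_le.2 ?_)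
    rintro q ((rfl | rfl | rfl) | ⟨i, rfl⟩)
    · exact Ideal.pow_mem_of_mem _ he _ (by omega)
    · exact h2
    · exact Ideal.subset_span (Or.inl (Or.inr rfl))
    · have hg : evar n (i.val + 1) ^ 2 ^ kprime n (i.val + 1) ∈ oddIdeal n := Ideal.subset_span (Or.inr ⟨i, rfl⟩)
      rw [SetLike.mem_coe]
      show hrel n (i.val + 1) ∈ _
      rcases (show i.val + 1 = 1 ∨ i.val + 1 = 2 ∨ 3 ≤ i.val + 1 by omega) with h | h | h
      · rw [h, hrel_one]; exact zero_mem _
      · rw [h, kprime_two] at hg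
        rw [h]
        have := add_mem (hrel_two_sub_mem ⟨t, ht⟩ h3 hnc h1 h2) hg
        rwa [sub_add_cancel] at this
      · have hlt := (range_facts h i.isLt).2.1
        have := add_mem ((hrel_sub_mem ⟨t, ht⟩ h3 hnc hn h i.isLt h1 h2).1 (by omega)).2 hg
        rwa [sub_add_cancel] at this
  · set I := Ideal.span {evar n 1 ^ 1} ⊔ presIdeal n
    have he : evar n 1 ∈ I := by
      have : evar n 1 ^ 1 ∈ I := Ideal.mem_sup_left (Ideal.mem_span_singleton_self _)
      rwa [pow_one] at this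
    obtain ⟨h1, h2⟩ := hR _ he
    refine Ideal.span_le.2 ?_
    rintro q ((rfl | rfl) | ⟨i, rfl⟩)
    · exact he
    · exact Ideal.mem_sup_right (Ideal.subset_span (Or.inl (Or.inr (Or.inr rfl))))
    · have hh : hrel n (i.val + 1) ∈ I := Ideal.mem_sup_right (Ideal.subset_span (Or.inr ⟨i, rfl⟩))
      rw [SetLike.mem_coe]
      show evar n (i.val + 1) ^ 2 ^ kprime n (i.val + 1) ∈ I
      rcases (show i.val + 1 = 1 ∨ i.val + 1 = 2 ∨ 3 ≤ i.val + 1 by omega) with h | h | h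
      · rw [h, kprime_one, ha]; simpa using he
      · rw [h] at hh
        rw [h, kprime_two]
        have := sub_mem hh (hrel_two_sub_mem ⟨t, ht⟩ h3 hnc h1 h2)
        rwa [sub_sub_cancel] at this
      · have hlt := (range_facts h i.isLt).2.1
        have := sub_mem hh ((hrel_sub_mem ⟨t, ht⟩ h3 hnc hn h i.isLt h1 h2).1 (by omega)).2
        rwa [sub_sub_cancel] at this

theorem evenIdeal_iff (hn : 2 ≤ n) (ha : 1 ≤ twoExp n) (hne : n ≠ 2 ^ twoExp n) :
    (∀ q : FreeP n, incl n q ∈ Ideal.span {evar n 1 ^ 2 ^ twoExp n} ⊔ presIdeal n ↔ q ∈ evenIdeal n) ∧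
    (∀ q : FreeE n, ∃ q' : FreeP n, q - incl n q' ∈ Ideal.span {evar n 1 ^ 2 ^ twoExp n} ⊔ presIdeal n) := by
  obtain ⟨c, hc, h3c, hnc⟩ := exists_odd_part (by omega) hne
  set a := twoExp n with hadef
  obtain ⟨t, rfl⟩ := hc
  set l := lIdx n with hl
  have hl' : 2 * l - 3 = 2 * t + 1 ∧ 3 ≤ l ∧ l ≤ numVars n := by
    have h2a : 2 ≤ 2 ^ a := Nat.le_self_pow (by omega) 2
    have h6 : 2 * (2 * t + 1) ≤ n := hnc ▸ Nat.mul_le_mul_right _ h2a
    have : l = t + 2 := by
      rw [hl, lIdx, ← hadef, Nat.div_eq_of_eq_mul_left (Nat.two_pow_pos a) (hnc.trans (mul_comm _ _))]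
      omega
    unfold numVars
    omega
  have hkl : kprime n l = a + 1 := by
    have := (hrel_sub_mem (I := ⊤) ⟨t, rfl⟩ h3c hnc hn hl'.2.1 hl'.2.2 Submodule.mem_top Submodule.mem_top).2 hl'.1
    exact this.1
  set y := evarE n l ^ 2 ^ a with hy
  have twoP : (2 : FreeP n) = 0 := by
    rw [← map_ofNat (algebraMap (ZMod 2) (FreeP n)) 2, show (OfNat.ofNat 2 : ZMod 2) = 0 from rfl, map_zero]
  have hgen : ∀ i : Fin (numVars n), evarE n (i.val + 1) ^ 2 ^ kprime n (i.val + 1) ∈ evenIdeal n := fun i =>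
    Ideal.subset_span (Or.inr ⟨i, rfl⟩)
  have hE1 : evarE n 1 ^ 2 ^ a ∈ evenIdeal n := by
    have := hgen ⟨0, Nat.succ_pos _⟩
    rwa [show (0 : ℕ) + 1 = 1 from rfl, kprime_one] at this
  have hEx : evarE n 1 * y ∈ evenIdeal n := Ideal.subset_span (Or.inl (by
    rw [Set.mem_singleton_iff, ← hl, hkl, Nat.add_sub_cancel]))
  have hEy : y ^ 2 ∈ evenIdeal n := by
    have := hgen ⟨l - 1, by omega⟩
    simp only [show l - 1 + 1 = l by omega, hkl] at this
    rwa [hy, ← pow_mul, ← pow_succ]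
  set J := (evenIdeal n).comap (retr n y)
  have hJ1 : evar n 1 ^ 2 ^ a ∈ J := by rw [Ideal.mem_comap, map_pow, retr_evar]; exact hE1
  have hJ2 : evar n 1 * xvar n ∈ J := by rw [Ideal.mem_comap, map_mul, retr_evar, retr_xvar]; exact hEx
  have h1J : Ideal.span {evar n 1 ^ 2 ^ a} ⊔ presIdeal n ≤ J := by
    refine sup_le ((Ideal.span_singleton_le_iff_mem _).2 hJ1) (Ideal.span_le.2 ?_)
    rintro q ((rfl | rfl | rfl) | ⟨i, rfl⟩)
    · exact Ideal.mem_of_dvd _ (pow_dvd_pow _ (hnc ▸ Nat.le_mul_of_pos_right _ (by omega))) hJ1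
    · exact hJ2
    · rw [SetLike.mem_coe, Ideal.mem_comap, map_pow, retr_xvar]; exact hEy
    · have hg := hgen i
      rw [SetLike.mem_coe]
      show hrel n (i.val + 1) ∈ J
      rcases (show i.val + 1 = 1 ∨ i.val + 1 = 2 ∨ 3 ≤ i.val + 1 by omega) with h | h | h
      · rw [h, hrel_one]; exact zero_mem _
      · rw [h, kprime_two] at hg
        rw [h]
        have h2 : evar n 2 ^ 2 ^ Nat.log 2 n ∈ J := by rw [Ideal.mem_comap, map_pow, retr_evar]; exact hg
        have := add_mem (hrel_two_sub_mem ⟨t, rfl⟩ h3c hnc hJ1 hJ2) h2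
        rwa [sub_add_cancel] at this
      · by_cases hd : 2 * (i.val + 1) - 3 = 2 * t + 1
        · have hil : i.val + 1 = l := by omega
          have h2 : evar n l ^ 2 ^ a + xvar n ∈ J := by
            rw [Ideal.mem_comap, map_add, map_pow, retr_evar, retr_xvar, hy, ← two_mul, twoP, zero_mul]
            exact zero_mem _
          have := add_mem ((hrel_sub_mem ⟨t, rfl⟩ h3c hnc hn h i.isLt hJ1 hJ2).2 hd).2 (hil ▸ h2)
          rwa [sub_add_cancel] at this
        · have h2 : evar n (i.val + 1) ^ 2 ^ kprime n (i.val + 1) ∈ J := by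
            rw [Ideal.mem_comap, map_pow, retr_evar]; exact hg
          have := add_mem ((hrel_sub_mem ⟨t, rfl⟩ h3c hnc hn h i.isLt hJ1 hJ2).1 hd).2 h2
          rwa [sub_add_cancel] at this
  set I := Ideal.span {evar n 1 ^ 2 ^ a} ⊔ presIdeal n
  have hI1 : evar n 1 ^ 2 ^ a ∈ I := Ideal.mem_sup_left (Ideal.mem_span_singleton_self _)
  have hI2 : evar n 1 * xvar n ∈ I := Ideal.mem_sup_right (Ideal.subset_span (Or.inl (Or.inr (Or.inl rfl))))
  have hIh : ∀ i : Fin (numVars n), hrel n (i.val + 1) ∈ I := fun i =>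
    Ideal.mem_sup_right (Ideal.subset_span (Or.inr ⟨i, rfl⟩))
  have hxy : evar n l ^ 2 ^ a + xvar n ∈ I := by
    have := sub_mem (hIh ⟨l - 1, by omega⟩) ((hrel_sub_mem ⟨t, rfl⟩ h3c hnc hn hl'.2.1 hl'.2.2 hI1 hI2).2 hl'.1).2
    simp only [show l - 1 + 1 = l by omega] at this
    rwa [sub_sub_cancel] at this
  have hxy' : xvar n - incl n y ∈ I := by
    convert hxy using 1
    rw [hy, map_pow, incl_evarE]
    linear_combination (-(evar n l ^ 2 ^ a)) * two_eq_zeroE (n := n)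
  have h2I : evenIdeal n ≤ I.comap (incl n) := by
    refine Ideal.span_le.2 ?_
    rintro q (rfl | ⟨i, rfl⟩)
    · rw [SetLike.mem_coe, Ideal.mem_comap, map_mul, map_pow, incl_evarE, incl_evarE, ← hl, hkl, Nat.add_sub_cancel]
      have := add_mem (Ideal.mul_mem_left _ (evar n 1) hxy) hI2
      convert this using 1
      linear_combination (-(evar n 1 * xvar n)) * two_eq_zeroE (n := n)
    · rw [SetLike.mem_coe, Ideal.mem_comap, map_pow, incl_evarE]
      rcases (show i.val + 1 = 1 ∨ i.val + 1 = 2 ∨ 3 ≤ i.val + 1 by omega) with h | h | h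
      · rw [h, kprime_one]; exact hI1
      · have hh := hIh i
        rw [h] at hh
        rw [h, kprime_two]
        have := sub_mem hh (hrel_two_sub_mem ⟨t, rfl⟩ h3c hnc hI1 hI2)
        rwa [sub_sub_cancel] at this
      · by_cases hd : 2 * (i.val + 1) - 3 = 2 * t + 1
        · rw [((hrel_sub_mem ⟨t, rfl⟩ h3c hnc hn h i.isLt hI1 hI2).2 hd).1, pow_succ 2 a, pow_mul,
            show i.val + 1 = l by omega]
          have hx2 : xvar n ^ 2 ∈ I := Ideal.mem_sup_right (Ideal.subset_span (Or.inl (Or.inr (Or.inr rfl))))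
          have := add_mem (Ideal.mul_mem_left _ (evar n l ^ 2 ^ a + xvar n) hxy) hx2
          convert this using 1
          linear_combination (-(evar n l ^ 2 ^ a * xvar n) - xvar n ^ 2) * two_eq_zeroE (n := n)
        · have := sub_mem (hIh i) ((hrel_sub_mem ⟨t, rfl⟩ h3c hnc hn h i.isLt hI1 hI2).1 hd).2
          rwa [sub_sub_cancel] at this
  refine ⟨fun q => ⟨fun h => ?_, fun h => h2I h⟩, fun q => ⟨retr n y q, ?_⟩⟩
  · simpa [J, retr_incl] using h1J h
  · rw [← Ideal.Quotient.eq]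
    refine (DFunLike.congr_fun (MvPolynomial.algHom_ext (f := Ideal.Quotient.mkₐ (ZMod 2) I)
      (g := (Ideal.Quotient.mkₐ (ZMod 2) I).comp ((incl n).comp (retr n y))) fun o => ?_) q)
    rw [Ideal.Quotient.mkₐ_eq_mk, AlgHom.comp_apply, AlgHom.comp_apply, Ideal.Quotient.mkₐ_eq_mk]
    rcases o with _ | i
    · rw [Ideal.Quotient.eq]
      simpa [retr, xvar] using hxy'
    · simp [retr, incl]

theorem powIdeal_eq (hn : 2 ≤ n) {b : ℕ} (hnb : n = 2 ^ b) :
    (∀ q : FreeP n, incl n q ∈ presIdeal n ↔ q ∈ powIdeal n) ∧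
    (∀ q : FreeE n, ∃ q' : FreeP n, q - incl n q' ∈ presIdeal n) := by
  have ha : twoExp n = b := by
    haveI : Fact (Nat.Prime 2) := ⟨Nat.prime_two⟩
    rw [hnb, twoExp, padicValNat.prime_pow]
  have hb : 1 ≤ b := by
    by_contra h
    rw [show b = 0 by omega] at hnb
    omega
  obtain ⟨B, rfl⟩ : ∃ B, b = B + 1 := ⟨b - 1, by omega⟩
  have hK : klog n 2 = B + 1 := by
    unfold klog
    simp only [show 2 * 2 - 3 = 1 from rfl, Nat.div_one]
    refine Nat.log_eq_of_pow_le_of_lt_pow ?_ ?_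
    · omega
    · rw [pow_succ 2 (B + 1)]; omega
  have hkp2 : kprime n 2 = B + 1 := by rw [kprime_two, hnb, Nat.log_pow one_lt_two]
  set y := ∑ t ∈ Finset.range (B + 1), evarE n 1 ^ (2 ^ (B + 1) - 2 ^ (t + 1)) * evarE n 2 ^ 2 ^ t with hy
  have hys : incl n y = sPoly n 2 := by
    rw [hy, sPoly, hK, map_sum]
    exact Finset.sum_congr rfl fun t _ => by rw [map_mul, map_pow, map_pow, incl_evarE, incl_evarE]
  have hsq : ∀ {R : Type} [CommRing R] (_ : (2 : R) = 0) (I : Ideal R) (e1 e2 : R), e1 ^ n ∈ I →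
      (∑ t ∈ Finset.range (B + 1), e1 ^ (2 ^ (B + 1) - 2 ^ (t + 1)) * e2 ^ 2 ^ t) ^ 2 - e2 ^ 2 ^ (B + 1) ∈ I := by
    intro R _ h2 I e1 e2 hI
    rw [Finset.sum_range_succ, Nat.sub_self, pow_zero, one_mul, add_sq, h2, zero_mul, zero_mul, add_zero,
      ← pow_mul, ← pow_succ, add_sub_cancel_right]
    have : ∀ (s : Finset ℕ), (∀ t ∈ s, t < B) →
        (∑ t ∈ s, e1 ^ (2 ^ (B + 1) - 2 ^ (t + 1)) * e2 ^ 2 ^ t) ^ 2 ∈ I := by
      intro s hs
      induction s using Finset.induction with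
      | empty => simp
      | insert t s hts ih =>
        rw [Finset.sum_insert hts, add_sq, h2, zero_mul, zero_mul, add_zero, mul_pow, ← pow_mul]
        refine add_mem (Ideal.mul_mem_right _ _ (Ideal.mem_of_dvd _ (pow_dvd_pow _ ?_) hI))
          (ih fun x hx => hs x (Finset.mem_insert_of_mem hx))
        have : 2 ^ (t + 1) ≤ 2 ^ B := Nat.pow_le_pow_right two_pos (hs t (Finset.mem_insert_self _ _))
        rw [hnb, pow_succ 2 B]
        omega
    exact this _ fun t ht => Finset.mem_range.1 ht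
  have twoP : (2 : FreeP n) = 0 := by
    rw [← map_ofNat (algebraMap (ZMod 2) (FreeP n)) 2, show (OfNat.ofNat 2 : ZMod 2) = 0 from rfl, map_zero]
  have hrelj : ∀ {j : ℕ}, 3 ≤ j → j ≤ numVars n → ∀ {I : Ideal (FreeE n)}, evar n 1 ^ n ∈ I →
      evar n 1 * xvar n ∈ I → kprime n j = klog n j ∧ hrel n j - evar n j ^ 2 ^ kprime n j ∈ I := by
    intro j h3 hj I hI1 hI2
    obtain ⟨hd3, hdn, hodd⟩ := range_facts h3 hj
    have hN := le_mul_two_pow hn (show 2 ≤ j by omega)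
    set d := 2 * j - 3 with hd
    have hkp : kprime n j = klog n j := by
      rw [kprime_eq h3]
      refine (log_div_cases (n := n) (by omega) (by omega)).resolve_right fun h => ?_
      have := odd_part_unique (m := Nat.log 2 (2 * n / d)) (a := B + 2) hodd odd_one (by rw [h, hnb]; ring)
      omega
    have hne : d * 2 ^ klog n j ≠ n := fun h => by
      have := odd_part_unique (m := klog n j) (a := B + 1) hodd odd_one (by rw [h, hnb, mul_one])
      omega
    have hkb : klog n j ≤ B + 1 := by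
      rw [← hK]
      exact Nat.log_mono_right (Nat.div_le_div_left (by omega) (by norm_num))
    refine ⟨hkp, ?_⟩
    rw [hkp, hrel, if_neg (by omega), if_pos ⟨h3, hj⟩, add_assoc, add_sub_cancel_left]
    have hlt0 : n < d * 2 ^ klog n j := lt_of_le_of_ne hN (Ne.symm hne)
    refine add_mem (Ideal.mem_of_dvd _ (mul_dvd_mul (dvd_pow_self _ (Nat.sub_ne_zero_of_lt hlt0)) dvd_rfl) hI2)
      (Ideal.mul_mem_right _ _ (Ideal.mem_of_dvd _ (pow_dvd_pow _ ?_) hI1))
    obtain ⟨m, hm⟩ := Nat.exists_eq_add_of_le hkb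
    have e : n = 2 ^ m * 2 ^ klog n j :=
      hnb.trans ((congrArg (2 ^ ·) hm).trans ((pow_add 2 _ _).trans (mul_comm _ _)))
    refine e.le.trans (Nat.mul_le_mul_right _ ?_)
    have hlt : 2 ^ m * 2 ^ klog n j < d * 2 ^ klog n j := e ▸ hlt0
    have := Nat.lt_of_mul_lt_mul_right hlt
    omega
  set J := (powIdeal n).comap (retr n y)
  have hgen : ∀ i : Fin (numVars n), evarE n (i.val + 1) ^ 2 ^ kprime n (i.val + 1) ∈ powIdeal n := fun i =>
    Ideal.subset_span (Or.inr ⟨i, rfl⟩)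
  have hE1 : evarE n 1 ^ n ∈ powIdeal n := by
    have := hgen ⟨0, Nat.succ_pos _⟩
    rwa [show (0 : ℕ) + 1 = 1 from rfl, kprime_one, ha, ← hnb] at this
  have hEx : evarE n 1 * y ∈ powIdeal n := Ideal.subset_span (Or.inl (by
    rw [Set.mem_singleton_iff, hkp2]))
  have hEy : y ^ 2 ∈ powIdeal n := by
    have h := hgen ⟨1, one_lt_numVars hn⟩
    rw [show (1 : ℕ) + 1 = 2 from rfl, hkp2] at h
    have := add_mem (hsq twoP _ (evarE n 1) (evarE n 2) hE1) h
    rwa [sub_add_cancel] at this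
  have hJ1 : evar n 1 ^ n ∈ J := by rw [Ideal.mem_comap, map_pow, retr_evar]; exact hE1
  have hJ2 : evar n 1 * xvar n ∈ J := by rw [Ideal.mem_comap, map_mul, retr_evar, retr_xvar]; exact hEx
  have hh2 : hrel n 2 = xvar n + sPoly n 2 := by
    rw [hrel, if_pos rfl, hK, ← hnb, Nat.sub_self, pow_zero, one_mul]
  have h1J : presIdeal n ≤ J := by
    refine Ideal.span_le.2 ?_
    rintro q ((rfl | rfl | rfl) | ⟨i, rfl⟩)
    · exact hJ1
    · exact hJ2
    · rw [SetLike.mem_coe, Ideal.mem_comap, map_pow, retr_xvar]; exact hEy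
    · rw [SetLike.mem_coe]
      show hrel n (i.val + 1) ∈ J
      rcases (show i.val + 1 = 1 ∨ i.val + 1 = 2 ∨ 3 ≤ i.val + 1 by omega) with h | h | h
      · rw [h, hrel_one]; exact zero_mem _
      · rw [h, hh2, Ideal.mem_comap, map_add, retr_xvar, ← hys, retr_incl, ← two_mul, twoP, zero_mul]
        exact zero_mem _
      · have h2 : evar n (i.val + 1) ^ 2 ^ kprime n (i.val + 1) ∈ J := by
          rw [Ideal.mem_comap, map_pow, retr_evar]; exact hgen i
        have := add_mem (hrelj h i.isLt hJ1 hJ2).2 h2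
        rwa [sub_add_cancel] at this
  have hI1 : evar n 1 ^ n ∈ presIdeal n := Ideal.subset_span (Or.inl (Or.inl rfl))
  have hI2 : evar n 1 * xvar n ∈ presIdeal n := Ideal.subset_span (Or.inl (Or.inr (Or.inl rfl)))
  have hxy : xvar n + incl n y ∈ presIdeal n := by
    rw [hys, ← hh2]
    exact Ideal.subset_span (Or.inr ⟨⟨1, one_lt_numVars hn⟩, rfl⟩)
  have hxy' : xvar n - incl n y ∈ presIdeal n := by
    convert hxy using 1
    linear_combination (-(incl n y)) * two_eq_zeroE (n := n)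
  have h2I : powIdeal n ≤ (presIdeal n).comap (incl n) := by
    refine Ideal.span_le.2 ?_
    rintro q (rfl | ⟨i, rfl⟩)
    · rw [SetLike.mem_coe, Ideal.mem_comap, hkp2, ← hy, map_mul, incl_evarE]
      have := sub_mem (Ideal.mul_mem_left _ (evar n 1) hxy) hI2
      convert this using 1
      ring
    · rw [SetLike.mem_coe, Ideal.mem_comap, map_pow, incl_evarE]
      rcases (show i.val + 1 = 1 ∨ i.val + 1 = 2 ∨ 3 ≤ i.val + 1 by omega) with h | h | h
      · rw [h, kprime_one, ha, ← hnb]; exact hI1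
      · rw [h, hkp2]
        have hs2 : (incl n y) ^ 2 - evar n 2 ^ 2 ^ (B + 1) ∈ presIdeal n := by
          have := hsq two_eq_zeroE (presIdeal n) (evar n 1) (evar n 2) hI1
          rw [hys, sPoly, hK]
          exact this
        have hx2 : xvar n ^ 2 ∈ presIdeal n := Ideal.subset_span (Or.inl (Or.inr (Or.inr rfl)))
        have := sub_mem (sub_mem hx2 (Ideal.mul_mem_left _ (xvar n + incl n y) hxy')) hs2
        convert this using 1
        ring
      · have hh : hrel n (i.val + 1) ∈ presIdeal n := Ideal.subset_span (Or.inr ⟨i, rfl⟩)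
        have := sub_mem hh (hrelj h i.isLt hI1 hI2).2
        rwa [sub_sub_cancel] at this
  refine ⟨fun q => ⟨fun h => ?_, fun h => h2I h⟩, fun q => ⟨retr n y q, ?_⟩⟩
  · simpa [J, retr_incl] using h1J h
  · rw [← Ideal.Quotient.eq]
    refine (DFunLike.congr_fun (MvPolynomial.algHom_ext (f := Ideal.Quotient.mkₐ (ZMod 2) (presIdeal n))
      (g := (Ideal.Quotient.mkₐ (ZMod 2) (presIdeal n)).comp ((incl n).comp (retr n y))) fun o => ?_) q)
    rw [Ideal.Quotient.mkₐ_eq_mk, AlgHom.comp_apply, AlgHom.comp_apply, Ideal.Quotient.mkₐ_eq_mk]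
    rcases o with _ | i
    · rw [Ideal.Quotient.eq]
      simpa [retr, xvar] using hxy'
    · simp [retr, incl]

end Groth.Agent.QsChow19
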