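import Groth.Agent.Lib.QsChow19.Basic

/-! The relations of the presentation and the canonical involution. -/

namespace Groth.Agent.QsChow19

open MvPolynomial QsChow

variable {n : ℕ}

theorem add_pow_two_pow (a b : P n) (k : ℕ) : (a + b) ^ 2 ^ k = a ^ 2 ^ k + b ^ 2 ^ k := by
  induction k with
  | zero => simp
  | succ k ih =>
    rw [pow_succ, pow_mul, ih, pow_mul, pow_mul]
    linear_combination (a ^ 2 ^ k * b ^ 2 ^ k) * two_eq_zero (n := n)

theorem two_pow_sub_succ {k t : ℕ} (ht : t < k) :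
    2 ^ (k + 1) - 2 ^ (t + 1) = 2 ^ k + (2 ^ k - 2 ^ (t + 1)) := by
  have h : 2 ^ (t + 1) ≤ 2 ^ k := Nat.pow_le_pow_right (by norm_num) ht
  rw [pow_succ 2 k]
  omega

theorem eps_two_pow (k : ℕ) :
    eps n 2 ^ 2 ^ k = ∑ t ∈ Finset.range k,
      eps n 1 ^ (2 ^ k - 2 ^ (t + 1)) * (eps n 2 ^ 2 + eps n 1 * eps n 2) ^ 2 ^ t +
      eps n 1 ^ (2 ^ k - 1) * eps n 2 := by
  induction k with
  | zero => simp
  | succ k ih =>
    have hw : (eps n 2 ^ 2 + eps n 1 * eps n 2) ^ 2 ^ k =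
        eps n 2 ^ 2 ^ (k + 1) + eps n 1 ^ 2 ^ k * eps n 2 ^ 2 ^ k := by
      rw [add_pow_two_pow, mul_pow, ← pow_mul, pow_succ' 2 k]
    have h1 : 2 ^ (k + 1) - 1 = 2 ^ k + (2 ^ k - 1) := by
      have := Nat.one_le_two_pow (n := k)
      rw [pow_succ]
      omega
    have hs : ∑ t ∈ Finset.range k, eps n 1 ^ (2 ^ (k + 1) - 2 ^ (t + 1)) *
        (eps n 2 ^ 2 + eps n 1 * eps n 2) ^ 2 ^ t =
        eps n 1 ^ 2 ^ k * ∑ t ∈ Finset.range k, eps n 1 ^ (2 ^ k - 2 ^ (t + 1)) *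
          (eps n 2 ^ 2 + eps n 1 * eps n 2) ^ 2 ^ t := by
      rw [Finset.mul_sum]
      refine Finset.sum_congr rfl fun t ht => ?_
      rw [two_pow_sub_succ (Finset.mem_range.1 ht), pow_add]
      ring
    rw [Finset.sum_range_succ, Nat.sub_self, pow_zero, one_mul, hw, hs, h1, pow_add]
    linear_combination (eps n 1 ^ 2 ^ k) * ih - eps n 1 ^ 2 ^ k * eps n 2 ^ 2 ^ k * two_eq_zero (n := n)

theorem le_mul_two_pow (hn : 2 ≤ n) {j : ℕ} (hj : 2 ≤ j) : n ≤ (2 * j - 3) * 2 ^ klog n j := by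
  set d := 2 * j - 3 with hd
  have h1 : (2 * n - 1) / d < 2 ^ (klog n j + 1) := Nat.lt_pow_succ_log_self one_lt_two _
  have h2 := Nat.lt_div_mul_add (a := 2 * n - 1) (show 0 < d by omega)
  have h3 : ((2 * n - 1) / d + 1) * d ≤ 2 ^ (klog n j + 1) * d := Nat.mul_le_mul_right d h1
  rw [pow_succ] at h3
  have e1 : 2 ^ klog n j * 2 * d = 2 * (d * 2 ^ klog n j) := by ring
  rw [e1, add_mul, one_mul] at h3
  omega

theorem le_two_pow_klog_two (hn : 2 ≤ n) : n ≤ 2 ^ klog n 2 := by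
  simpa using le_mul_two_pow hn (le_refl 2)

theorem one_le_klog_two (hn : 2 ≤ n) : 1 ≤ klog n 2 := by
  by_contra h
  have := le_two_pow_klog_two hn
  rw [show klog n 2 = 0 by omega] at this
  omega

theorem phi_evar_one : phi n (evar n 1) = eps n 1 := by
  unfold evar
  rw [dif_pos ⟨one_pos, Nat.succ_pos _⟩, phi, aeval_X]
  simp [genImage]

theorem phi_evar_two (hn : 2 ≤ n) : phi n (evar n 2) = eps n 2 ^ 2 + eps n 1 * eps n 2 := by
  unfold evar
  rw [dif_pos ⟨two_pos, one_lt_numVars hn⟩, phi, aeval_X]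
  simp [genImage]

theorem phi_evar {j : ℕ} (hj : 3 ≤ j) (hj' : j ≤ numVars n) :
    phi n (evar n j) = eps n j + eps n 1 ^ (2 * j - 4) * eps n 2 := by
  unfold evar
  rw [dif_pos ⟨by omega, hj'⟩, phi, aeval_X]
  simp only [genImage]
  rw [if_neg (by omega), if_neg (by omega), show j - 1 + 1 = j by omega]

theorem phi_xvar : phi n (xvar n) = eps n 1 ^ (n - 1) * eps n 2 := aeval_X _ _

theorem phi_sPoly (hn : 2 ≤ n) (j : ℕ) :
    phi n (sPoly n j) + eps n 1 ^ (2 ^ klog n j - 1) * eps n 2 = eps n 2 ^ 2 ^ klog n j := by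
  rw [eps_two_pow]
  simp only [sPoly, map_sum, map_mul, map_pow, phi_evar_one, phi_evar_two hn]

theorem presIdeal_le_ker (hn : 2 ≤ n) : presIdeal n ≤ RingHom.ker (phi n) := by
  refine Ideal.span_le.2 ?_
  rintro q ((rfl | rfl | rfl) | ⟨i, rfl⟩) <;> rw [SetLike.mem_coe, RingHom.mem_ker]
  · rw [map_pow, phi_evar_one, eps_one_pow]
  · rw [map_mul, phi_evar_one, phi_xvar, ← mul_assoc, ← pow_succ', show n - 1 + 1 = n by omega,
      eps_one_pow, zero_mul]
  · rw [map_pow, phi_xvar, mul_pow, ← pow_mul, eps_one_pow_of_le (by omega), zero_mul]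
  · simp only [hrel]
    have hj := i.isLt
    split_ifs with h2 h3
    · rw [map_add, map_mul, map_pow, phi_evar_one, phi_xvar, ← mul_assoc, ← pow_add,
        show 2 ^ klog n 2 - n + (n - 1) = 2 ^ klog n 2 - 1 by have := le_two_pow_klog_two hn; omega,
        add_comm, phi_sPoly hn, eps_pow_klog le_rfl (one_lt_numVars hn)]
    · set j := i.val + 1
      have h := le_mul_two_pow hn (show 2 ≤ j by omega)
      have hN := Nat.one_le_two_pow (n := klog n j)
      have e : (2 * j - 3) * 2 ^ klog n j = (2 * j - 4) * 2 ^ klog n j + 2 ^ klog n j := by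
        rw [show 2 * j - 3 = (2 * j - 4) + 1 by omega, add_mul, one_mul]
      rw [map_add, map_add, map_mul, map_mul, map_pow, map_pow, map_pow, phi_evar_one, phi_xvar,
        phi_evar h3.1 h3.2, add_pow_two_pow, eps_pow_klog (by omega) h3.2, mul_pow, ← pow_mul,
        ← phi_sPoly hn j, ← mul_assoc (eps n 1 ^ _) (eps n 1 ^ (n - 1)), ← pow_add,
        show (2 * j - 3) * 2 ^ klog n j - n + (n - 1) = (2 * j - 4) * 2 ^ klog n j + (2 ^ klog n j - 1) by omega,
        pow_add]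
      linear_combination (eps n 1 ^ ((2 * j - 4) * 2 ^ klog n j) * (phi n) (sPoly n j) +
        eps n 1 ^ ((2 * j - 4) * 2 ^ klog n j) * eps n 1 ^ (2 ^ klog n j - 1) * eps n 2) * two_eq_zero (n := n)
    · exact map_zero _

/-- The involution exists. -/
theorem exists_tau (hn : 2 ≤ n) : ∃ τ : P n →ₐ[ZMod 2] P n, τ (eps n 1) = eps n 1 ∧
    ∀ j : ℕ, 2 ≤ j → j ≤ numVars n → τ (eps n j) = eps n j + eps n 1 ^ (2 * j - 3) := by
  let f : FreeP n →ₐ[ZMod 2] P n := aeval fun i : Fin (numVars n) =>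
    if i.val = 0 then eps n 1 else eps n (i.val + 1) + eps n 1 ^ (2 * (i.val + 1) - 3)
  have hf : ∀ a ∈ truncIdeal n, f a = 0 := fun a ha => by
    refine (Ideal.span_le (I := RingHom.ker f)).2 ?_ ha
    rintro _ ⟨i, rfl⟩
    rw [SetLike.mem_coe, RingHom.mem_ker, map_pow, aeval_X]
    unfold bound
    split_ifs with h
    · exact eps_one_pow n
    · rw [add_pow_two_pow, eps_pow_klog (by omega) i.isLt, ← pow_mul,
        eps_one_pow_of_le (le_mul_two_pow hn (by omega)), add_zero]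
  refine ⟨Ideal.Quotient.liftₐ _ f hf, ?_, fun j h2 hj => ?_⟩
  · conv_lhs => rw [eps_one]
    rw [Ideal.Quotient.liftₐ_apply, Ideal.Quotient.lift_mk]
    show f (X _) = _
    rw [aeval_X]
    rfl
  · obtain ⟨i, rfl⟩ : ∃ i : Fin (numVars n), i.val + 1 = j := ⟨⟨j - 1, by omega⟩, by simp only; omega⟩
    conv_lhs => rw [eps_succ]
    rw [Ideal.Quotient.liftₐ_apply, Ideal.Quotient.lift_mk]
    show f (X _) = _
    rw [aeval_X, if_neg (by omega)]

end Groth.Agent.QsChow19
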